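import Mathlib
import Cfsg.Prelude.Def_Characters

/-!
# Induction of functions from subgroups

Pure function-level facts about `Cfsg.extendByZero` and `Cfsg.indFun`: linearity, value at one,
Frobenius reciprocity, transitivity, the projection formula, the Mackey formula, normal subgroups,
trivial-intersection sets.  No representation theory is used here.
-/

namespace Cfsg.Agent.CharInduce

open scoped ComplexConjugate
open Finset

variable {G : Type*} [Group G]

section Extend

variable {H : Subgroup G} {θ : H → ℂ}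

theorem extendByZero_coe (θ : H → ℂ) (h : H) : extendByZero H θ (h : G) = θ h :=
  Subtype.val_injective.extend_apply θ 0 h

theorem extendByZero_of_mem (θ : H → ℂ) {g : G} (hg : g ∈ H) :
    extendByZero H θ g = θ ⟨g, hg⟩ :=
  extendByZero_coe θ ⟨g, hg⟩

theorem extendByZero_of_not_mem (θ : H → ℂ) {g : G} (hg : g ∉ H) :
    extendByZero H θ g = 0 :=
  Function.extend_apply' _ _ _ fun ⟨a, ha⟩ => hg (ha ▸ a.2)

theorem extendByZero_add (θ θ' : H → ℂ) :
    extendByZero H (θ + θ') = extendByZero H θ + extendByZero H θ' := by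
  funext g
  by_cases hg : g ∈ H
  · simp [extendByZero_of_mem _ hg]
  · simp [extendByZero_of_not_mem _ hg]

theorem extendByZero_smul (c : ℂ) (θ : H → ℂ) :
    extendByZero H (c • θ) = c • extendByZero H θ := by
  funext g
  by_cases hg : g ∈ H
  · simp [extendByZero_of_mem _ hg]
  · simp [extendByZero_of_not_mem _ hg]

theorem extendByZero_zero : extendByZero H (0 : H → ℂ) = 0 := by
  funext g
  by_cases hg : g ∈ H
  · simp [extendByZero_of_mem _ hg]
  · simp [extendByZero_of_not_mem _ hg]

theorem extendByZero_mul_res (θ : H → ℂ) (χ : G → ℂ) (g : G) :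
    extendByZero H (fun h => θ h * χ h) g = extendByZero H θ g * χ g := by
  by_cases hg : g ∈ H
  · simp [extendByZero_of_mem _ hg]
  · simp [extendByZero_of_not_mem _ hg]

theorem extendByZero_conj (hθ : IsClassFunction H θ) {h : G} (hh : h ∈ H) (g : G) :
    extendByZero H θ (h * g * h⁻¹) = extendByZero H θ g := by
  by_cases hg : g ∈ H
  · rw [extendByZero_of_mem _ hg,
      extendByZero_of_mem _ (H.mul_mem (H.mul_mem hh hg) (H.inv_mem hh))]
    exact hθ ⟨g, hg⟩ ⟨h, hh⟩
  · rw [extendByZero_of_not_mem _ hg, extendByZero_of_not_mem]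
    rwa [H.mul_mem_cancel_right (H.inv_mem hh), H.mul_mem_cancel_left hh]

variable [Fintype G]

theorem sum_extendByZero_mul [Fintype H] (θ : H → ℂ) (F : G → ℂ) :
    ∑ g : G, extendByZero H θ g * F g = ∑ h : H, θ h * F h := by
  symm
  refine Fintype.sum_of_injective (Subtype.val : H → G) Subtype.val_injective _ _ ?_ ?_
  · intro g hg
    rw [extendByZero_of_not_mem _ (fun h => hg ⟨⟨g, h⟩, rfl⟩), zero_mul]
  · intro h
    rw [extendByZero_coe]

theorem sum_extendByZero [Fintype H] (θ : H → ℂ) :
    ∑ g : G, extendByZero H θ g = ∑ h : H, θ h := by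
  simpa using sum_extendByZero_mul θ (fun _ => 1)

end Extend

section Conj

/-- Summing over the group is invariant under conjugation. -/
theorem sum_conj [Fintype G] (F : G → ℂ) (x : G) : ∑ g : G, F (x⁻¹ * g * x) = ∑ g : G, F g := by
  refine Fintype.sum_equiv (MulAut.conj x⁻¹).toEquiv _ _ fun g => ?_
  simp

theorem card_ne_zero_complex (G : Type*) [Group G] [Finite G] : (Nat.card G : ℂ) ≠ 0 :=
  Nat.cast_ne_zero.2 Nat.card_pos.ne'

end Conj

variable [Fintype G]

theorem indFun_apply (H : Subgroup G) (θ : H → ℂ) (g : G) :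
    indFun H θ g = (Nat.card H : ℂ)⁻¹ * ∑ x : G, extendByZero H θ (x⁻¹ * g * x) := rfl

/-- `|H| * (Ind θ)(g)` is the plain sum over the group. -/
theorem card_mul_indFun (H : Subgroup G) (θ : H → ℂ) (g : G) :
    (Nat.card H : ℂ) * indFun H θ g = ∑ x : G, extendByZero H θ (x⁻¹ * g * x) := by
  rw [indFun_apply, ← mul_assoc, mul_inv_cancel₀ (card_ne_zero_complex H), one_mul]

theorem isClassFunction_indFun (H : Subgroup G) (θ : H → ℂ) : IsClassFunction G (indFun H θ) := by
  intro g h
  simp only [indFun_apply]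
  congr 1
  refine Fintype.sum_equiv (Equiv.mulLeft h⁻¹) _ _ fun x => ?_
  simp [mul_assoc]

theorem indFun_add (H : Subgroup G) (θ θ' : H → ℂ) :
    indFun H (θ + θ') = indFun H θ + indFun H θ' := by
  funext g
  simp [indFun_apply, extendByZero_add, sum_add_distrib, mul_add]

theorem indFun_smul (H : Subgroup G) (c : ℂ) (θ : H → ℂ) :
    indFun H (c • θ) = c • indFun H θ := by
  funext g
  simp only [indFun_apply, extendByZero_smul, Pi.smul_apply, smul_eq_mul, ← mul_sum]
  ring

theorem indFun_zero (H : Subgroup G) : indFun H (0 : H → ℂ) = 0 := by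
  funext g
  simp [indFun_apply, extendByZero_zero]

theorem indFun_neg (H : Subgroup G) (θ : H → ℂ) : indFun H (-θ) = -indFun H θ := by
  rw [← neg_one_smul ℂ θ, indFun_smul, neg_one_smul]

theorem indFun_sub (H : Subgroup G) (θ θ' : H → ℂ) :
    indFun H (θ - θ') = indFun H θ - indFun H θ' := by
  rw [sub_eq_add_neg, indFun_add, indFun_neg, sub_eq_add_neg]

theorem indFun_sum {ι : Type*} (H : Subgroup G) (s : Finset ι) (θ : ι → H → ℂ) :
    indFun H (∑ i ∈ s, θ i) = ∑ i ∈ s, indFun H (θ i) := by
  classical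
  induction s using Finset.induction_on with
  | empty => simp [indFun_zero]
  | insert i s hi ih => rw [sum_insert hi, sum_insert hi, indFun_add, ih]

theorem indFun_one (H : Subgroup G) (θ : H → ℂ) : indFun H θ 1 = (H.index : ℂ) * θ 1 := by
  have h : ∀ x : G, extendByZero H θ (x⁻¹ * 1 * x) = θ 1 := by
    intro x
    rw [mul_one, inv_mul_cancel]
    exact extendByZero_of_mem θ H.one_mem
  simp only [indFun_apply, h, sum_const, card_univ, nsmul_eq_mul]
  rw [← Nat.card_eq_fintype_card, ← H.card_mul_index, Nat.cast_mul]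
  have := card_ne_zero_complex H
  field_simp

/-- An induced function vanishes at every element with no conjugate in the subgroup. -/
theorem indFun_eq_zero_of_forall_not_mem (H : Subgroup G) (θ : H → ℂ) {g : G}
    (hg : ∀ x : G, x⁻¹ * g * x ∉ H) : indFun H θ g = 0 := by
  simp [indFun_apply, fun x => extendByZero_of_not_mem θ (hg x)]

theorem indFun_eq_zero_of_normal (N : Subgroup G) [hN : N.Normal] (θ : N → ℂ) {g : G}
    (hg : g ∉ N) : indFun N θ g = 0 := by
  refine indFun_eq_zero_of_forall_not_mem N θ fun x hx => hg ?_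
  simpa [mul_assoc] using hN.conj_mem _ hx x

/-- The `G`-conjugate `θ^x : n ↦ θ (x n x⁻¹)` of a function on a normal subgroup. -/
def conjFun (N : Subgroup G) [hN : N.Normal] (θ : N → ℂ) (x : G) : N → ℂ :=
  fun n => θ ⟨x * n * x⁻¹, hN.conj_mem n n.2 x⟩

omit [Fintype G] in
theorem extendByZero_conjFun (N : Subgroup G) [hN : N.Normal] (θ : N → ℂ) (x : G) (n : N) :
    extendByZero N θ (x * n * x⁻¹) = conjFun N θ x n :=
  extendByZero_of_mem θ (hN.conj_mem n n.2 x)

theorem indFun_normal_coe (N : Subgroup G) [N.Normal] (θ : N → ℂ) (n : N) :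
    indFun N θ n = (Nat.card N : ℂ)⁻¹ * ∑ x : G, conjFun N θ x n := by
  rw [indFun_apply]
  congr 1
  refine Fintype.sum_equiv (Equiv.inv G) _ _ fun x => ?_
  rw [Equiv.inv_apply, ← extendByZero_conjFun, inv_inv]

/-- Inducing a class function of the whole group does nothing. -/
theorem indFun_top (χ : G → ℂ) (hχ : IsClassFunction G χ) :
    indFun (⊤ : Subgroup G) (fun g => χ g) = χ := by
  funext g
  have h : ∀ x : G, extendByZero (⊤ : Subgroup G) (fun g => χ g) (x⁻¹ * g * x) = χ g := by
    intro x
    rw [extendByZero_of_mem _ (Subgroup.mem_top _)]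
    simpa using hχ g x⁻¹
  simp only [indFun_apply, h, sum_const, card_univ, nsmul_eq_mul, Subgroup.card_top,
    Nat.card_eq_fintype_card]
  rw [← mul_assoc, inv_mul_cancel₀ (Nat.cast_ne_zero.2 Fintype.card_ne_zero), one_mul]

/-- Projection formula. -/
theorem indFun_mul_res (H : Subgroup G) (θ : H → ℂ) (χ : G → ℂ) (hχ : IsClassFunction G χ) :
    indFun H (fun h => θ h * χ h) = indFun H θ * χ := by
  funext g
  simp only [indFun_apply, Pi.mul_apply, extendByZero_mul_res, mul_assoc, sum_mul]
  congr 1
  refine sum_congr rfl fun x _ => ?_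
  congr 1
  simpa [mul_assoc] using hχ g x⁻¹

theorem conj_indFun (H : Subgroup G) (θ : H → ℂ) (g : G) :
    conj (indFun H θ g) = indFun H (fun h => conj (θ h)) g := by
  simp only [indFun_apply, map_mul, map_inv₀, map_natCast, map_sum]
  congr 1
  refine sum_congr rfl fun x _ => ?_
  by_cases hx : x⁻¹ * g * x ∈ H
  · simp [extendByZero_of_mem _ hx]
  · simp [extendByZero_of_not_mem _ hx]

/-- Frobenius reciprocity. -/
theorem classInner_indFun_left (H : Subgroup G) [Fintype H] (θ : H → ℂ) (χ : G → ℂ)
    (hχ : IsClassFunction G χ) :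
    classInner (indFun H θ) χ = classInner θ (fun h : H => χ h) := by
  simp only [classInner, indFun_apply]
  have key : ∀ x : G, ∑ g : G, extendByZero H θ (x⁻¹ * g * x) * conj (χ g)
      = ∑ h : H, θ h * conj (χ h) := by
    intro x
    rw [← sum_extendByZero_mul θ (fun g => conj (χ g)),
      ← sum_conj (fun g => extendByZero H θ g * conj (χ g)) x]
    refine sum_congr rfl fun g _ => ?_
    have : χ (x⁻¹ * g * x) = χ g := by simpa using hχ g x⁻¹
    rw [this]
  have e : ∀ g : G, (Nat.card H : ℂ)⁻¹ * (∑ x : G, extendByZero H θ (x⁻¹ * g * x)) * conj (χ g)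
      = (Nat.card H : ℂ)⁻¹ * ∑ x : G, extendByZero H θ (x⁻¹ * g * x) * conj (χ g) := by
    intro g
    rw [mul_assoc, sum_mul]
  simp only [e, ← mul_sum]
  rw [sum_comm]
  simp only [key, sum_const, card_univ, nsmul_eq_mul, ← Nat.card_eq_fintype_card]
  have := card_ne_zero_complex G
  field_simp

theorem conj_classInner (φ ψ : G → ℂ) :
    conj (classInner φ ψ) = classInner ψ φ := by
  simp [classInner, mul_comm]

/-- Frobenius reciprocity, induced function on the right. -/
theorem classInner_indFun_right (H : Subgroup G) [Fintype H] (θ : H → ℂ) (χ : G → ℂ)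
    (hχ : IsClassFunction G χ) :
    classInner χ (indFun H θ) = classInner (fun h : H => χ h) θ := by
  rw [← conj_classInner, classInner_indFun_left H θ χ hχ, conj_classInner]

/-- Transitivity of induction. -/
theorem indFun_indFun (H K : Subgroup G) [Fintype K] (hHK : H ≤ K) (θ : H → ℂ) :
    indFun K (indFun (H.subgroupOf K) (fun x => θ ⟨(x : K), Subgroup.mem_subgroupOf.mp x.2⟩))
      = indFun H θ := by
  set θ' : H.subgroupOf K → ℂ := fun x => θ ⟨(x : K), Subgroup.mem_subgroupOf.mp x.2⟩
  have hext : ∀ y : K, extendByZero (H.subgroupOf K) θ' y = extendByZero H θ (y : G) := by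
    intro y
    by_cases hy : (y : G) ∈ H
    · rw [extendByZero_of_mem _ hy, extendByZero_of_mem _ (Subgroup.mem_subgroupOf.2 hy)]
    · rw [extendByZero_of_not_mem _ hy,
        extendByZero_of_not_mem _ (fun h => hy (Subgroup.mem_subgroupOf.1 h))]
  have hcard : Nat.card (H.subgroupOf K) = Nat.card H :=
    Nat.card_congr (Subgroup.subgroupOfEquivOfLe hHK).toEquiv
  have key : ∀ y : G, extendByZero K (indFun (H.subgroupOf K) θ') y
      = (Nat.card H : ℂ)⁻¹ * ∑ k : K, extendByZero H θ ((k : G)⁻¹ * y * k) := by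
    intro y
    by_cases hy : y ∈ K
    · rw [extendByZero_of_mem _ hy, indFun_apply, hcard]
      simp [hext]
    · rw [extendByZero_of_not_mem _ hy, eq_comm]
      refine mul_eq_zero_of_right _ (sum_eq_zero fun k _ => extendByZero_of_not_mem _ fun h => hy ?_)
      have := K.mul_mem (K.mul_mem k.2 (hHK h)) (K.inv_mem k.2)
      simpa [mul_assoc] using this
  funext g
  simp only [indFun_apply K, key, ← mul_sum]
  rw [sum_comm]
  have h2 : ∀ k : K, ∑ x : G, extendByZero H θ ((k : G)⁻¹ * (x⁻¹ * g * x) * k)
      = ∑ x : G, extendByZero H θ (x⁻¹ * g * x) := by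
    intro k
    refine Fintype.sum_equiv (Equiv.mulRight (k : G)) _ _ fun x => ?_
    simp [mul_assoc]
  simp only [h2, sum_const, card_univ, nsmul_eq_mul, indFun_apply, ← Nat.card_eq_fintype_card]
  have := card_ne_zero_complex K
  field_simp

/-- Mackey formula, averaged over the group: the restriction to `K` of an induced function is
the sum over `x : G`, weighted by the reciprocal size of the double coset `K x H`, of the function
induced to `K` from `K ⊓ x H x⁻¹`. -/
theorem indFun_res_eq_sum (H K : Subgroup G) [Fintype K] (θ : H → ℂ) (k : K) :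
    indFun H θ k = ∑ x : G,
      ((Nat.card ↥((H.map (MulAut.conj x).toMonoidHom).subgroupOf K) : ℂ) /
          ((Nat.card H : ℂ) * (Nat.card K : ℂ))) *
        indFun ((H.map (MulAut.conj x).toMonoidHom).subgroupOf K)
          (fun u => extendByZero H θ (x⁻¹ * ((u : K) : G) * x)) k := by
  have key : ∀ (x : G) (y : K),
      extendByZero ((H.map (MulAut.conj x).toMonoidHom).subgroupOf K)
        (fun u => extendByZero H θ (x⁻¹ * ((u : K) : G) * x)) y
        = extendByZero H θ (x⁻¹ * (y : G) * x) := by
    intro x y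
    by_cases hy : y ∈ (H.map (MulAut.conj x).toMonoidHom).subgroupOf K
    · rw [extendByZero_of_mem _ hy]
    · rw [extendByZero_of_not_mem _ hy, extendByZero_of_not_mem]
      intro h
      exact hy (Subgroup.mem_subgroupOf.2 ⟨_, h, by simp [mul_assoc]⟩)
  simp only [indFun_apply _ _ k, key, Subgroup.coe_mul, InvMemClass.coe_inv]
  have h1 : ∀ x : G,
      (Nat.card ↥((H.map (MulAut.conj x).toMonoidHom).subgroupOf K) : ℂ) /
          ((Nat.card H : ℂ) * (Nat.card K : ℂ)) *
        ((Nat.card ↥((H.map (MulAut.conj x).toMonoidHom).subgroupOf K) : ℂ)⁻¹ *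
          ∑ u : K, extendByZero H θ (x⁻¹ * ((u : G)⁻¹ * k * u) * x))
      = ((Nat.card H : ℂ) * (Nat.card K : ℂ))⁻¹ *
          ∑ u : K, extendByZero H θ (x⁻¹ * ((u : G)⁻¹ * k * u) * x) := by
    intro x
    have := card_ne_zero_complex ↥((H.map (MulAut.conj x).toMonoidHom).subgroupOf K)
    field_simp
  simp only [h1, ← mul_sum]
  rw [sum_comm]
  have h2 : ∀ u : K, ∑ x : G, extendByZero H θ (x⁻¹ * ((u : G)⁻¹ * k * u) * x)
      = ∑ x : G, extendByZero H θ (x⁻¹ * k * x) := by
    intro u
    refine Fintype.sum_equiv (Equiv.mulLeft (u : G)) _ _ fun x => ?_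
    simp [mul_assoc]
  simp only [h2, sum_const, card_univ, nsmul_eq_mul, indFun_apply, ← Nat.card_eq_fintype_card]
  have := card_ne_zero_complex K
  field_simp

section TI

variable {T : Set G}

theorem indFun_eq_of_ti (hTI : ∀ g : G, g ∉ Subgroup.normalizer T → ∀ t ∈ T, g * t * g⁻¹ ∈ T → t = 1)
    (ψ : Subgroup.normalizer T → ℂ) (hψ : IsClassFunction (Subgroup.normalizer T) ψ)
    (hψT : ∀ x : Subgroup.normalizer T, (x : G) ∉ T → ψ x = 0)
    (t : Subgroup.normalizer T) (htT : (t : G) ∈ T) (ht1 : t ≠ 1) :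
    indFun (Subgroup.normalizer T) ψ t = ψ t := by
  classical
  have h : ∀ x : G, extendByZero (Subgroup.normalizer T) ψ (x⁻¹ * t * x)
      = if x ∈ Subgroup.normalizer T then ψ t else 0 := by
    intro x
    split_ifs with hx
    · have := extendByZero_conj hψ ((Subgroup.normalizer T).inv_mem hx) (t : G)
      rw [inv_inv, extendByZero_coe] at this
      exact this
    · by_cases hy : x⁻¹ * (t : G) * x ∈ Subgroup.normalizer T
      · rw [extendByZero_of_mem _ hy]
        refine hψT _ fun hyT => ht1 (Subtype.ext ?_)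
        refine hTI x⁻¹ (fun h' => hx ?_) t htT (by simpa using hyT)
        simpa using (Subgroup.normalizer T).inv_mem h'
      · rw [extendByZero_of_not_mem _ hy]
  simp only [indFun_apply, h]
  rw [← sum_filter, sum_const, nsmul_eq_mul]
  have hc : #(univ.filter fun x : G => x ∈ Subgroup.normalizer T)
      = Nat.card (Subgroup.normalizer T) := by
    rw [Nat.card_eq_fintype_card, Fintype.card_subtype]
  rw [hc, ← mul_assoc, inv_mul_cancel₀ (card_ne_zero_complex _), one_mul]

theorem classInner_indFun_of_ti [Fintype (Subgroup.normalizer T)]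
    (hTI : ∀ g : G, g ∉ Subgroup.normalizer T → ∀ t ∈ T, g * t * g⁻¹ ∈ T → t = 1)
    (ψ θ : Subgroup.normalizer T → ℂ) (hθ : IsClassFunction (Subgroup.normalizer T) θ)
    (hψT : ∀ x : Subgroup.normalizer T, (x : G) ∉ T → ψ x = 0)
    (hθT : ∀ x : Subgroup.normalizer T, (x : G) ∉ T → θ x = 0)
    (hψ1 : ψ 1 = 0) :
    classInner (indFun (Subgroup.normalizer T) ψ) (indFun (Subgroup.normalizer T) θ)
      = classInner ψ θ := by
  rw [classInner_indFun_left _ ψ _ (isClassFunction_indFun _ θ)]
  simp only [classInner]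
  congr 1
  refine sum_congr rfl fun x _ => ?_
  by_cases hx : (x : G) ∈ T
  · by_cases hx1 : x = 1
    · simp [hx1, hψ1]
    · rw [indFun_eq_of_ti hTI θ hθ hθT x hx hx1]
  · simp [hψT x hx]

end TI

/-- The permutation character of a transitive action is induced from the trivial character of
a point stabiliser. -/
theorem fixedBy_eq_indFun {X : Type*} [MulAction G X] [Finite X] [MulAction.IsPretransitive G X]
    (x₀ : X) :
    (fun g : G => (Nat.card (MulAction.fixedBy X g) : ℂ))
      = indFun (MulAction.stabilizer G x₀) (fun _ => 1) := by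
  classical
  have := Fintype.ofFinite X
  funext g
  have hfib : ∀ y : X, #(univ.filter fun x : G => x • x₀ = y)
      = Nat.card (MulAction.stabilizer G x₀) := by
    intro y
    obtain ⟨z, rfl⟩ := MulAction.exists_smul_eq G x₀ y
    rw [Nat.card_eq_fintype_card, Fintype.card_subtype]
    refine Finset.card_equiv (Equiv.mulLeft z⁻¹) fun x => ?_
    simp [MulAction.mem_stabilizer_iff, mul_smul, inv_smul_eq_iff]
  have h : ∀ x : G, extendByZero (MulAction.stabilizer G x₀) (fun _ => 1) (x⁻¹ * g * x)
      = if g • (x • x₀) = x • x₀ then 1 else 0 := by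
    intro x
    split_ifs with hx
    · rw [extendByZero_of_mem]
      simp [MulAction.mem_stabilizer_iff, mul_smul, hx]
    · rw [extendByZero_of_not_mem]
      simpa [MulAction.mem_stabilizer_iff, mul_smul, inv_smul_eq_iff] using hx
  have h2 : ∑ x : G, (if g • (x • x₀) = x • x₀ then (1 : ℂ) else 0)
      = ∑ y : X, if g • y = y then (Nat.card (MulAction.stabilizer G x₀) : ℂ) else 0 := by
    rw [← sum_fiberwise univ (fun x : G => x • x₀)]
    refine sum_congr rfl fun y _ => ?_
    rw [sum_congr rfl (g := fun _ => if g • y = y then (1 : ℂ) else 0)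
      (fun x hx => by rw [(mem_filter.1 hx).2]), sum_const, hfib]
    split_ifs <;> simp
  simp only [indFun_apply, h, h2]
  rw [← sum_filter, sum_const, nsmul_eq_mul, Nat.card_eq_fintype_card (α := MulAction.fixedBy X g),
    Fintype.card_of_subtype (univ.filter fun y : X => g • y = y) (by simp [MulAction.mem_fixedBy])]
  have := card_ne_zero_complex (MulAction.stabilizer G x₀)
  field_simp

end Cfsg.Agent.CharInduce
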