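import Cfsg.Agent.CharBasic.Complete
import Cfsg.Agent.CharInduce.Function
import Mathlib

/-!
# Operations on characters: pullback along homomorphisms, products, duals, linear characters,
generalised characters, and recognition of (irreducible) characters by their coefficients.
-/

namespace Cfsg.Agent.CharInduce

open scoped ComplexConjugate
open Cfsg.Agent.CharBasic Module

universe u v

section Pullback

variable {G : Type u} [Group G] {H : Type v} [Group H]

theorem IsChar.comp {χ : H → ℂ} (h : IsCharacter H χ) (f : G →* H) :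
    IsCharacter G (fun g => χ (f g)) := by
  obtain ⟨n, ρ, rfl⟩ := h
  exact ⟨n, ρ.comp f, rfl⟩

/-- Pulling back along a surjection does not change the subrepresentations. -/
def subrepCompOrderIso {V : Type*} [AddCommGroup V] [Module ℂ V] (ρ : Representation ℂ H V)
    (f : G →* H) (hf : Function.Surjective f) :
    Subrepresentation (MonoidHom.comp ρ f : Representation ℂ G V) ≃o Subrepresentation ρ where
  toFun S := ⟨S.toSubmodule, fun h v hv => by
    obtain ⟨g, rfl⟩ := hf h
    exact S.apply_mem_toSubmodule g hv⟩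
  invFun T := ⟨T.toSubmodule, fun g v hv => T.apply_mem_toSubmodule (f g) hv⟩
  left_inv _ := rfl
  right_inv _ := rfl
  map_rel_iff' := Iff.rfl

theorem IsIrr.comp {χ : H → ℂ} (h : IsIrrCharacter H χ) (f : G →* H)
    (hf : Function.Surjective f) : IsIrrCharacter G (fun g => χ (f g)) := by
  obtain ⟨n, ρ, hρ, rfl⟩ := h
  exact ⟨n, ρ.comp f, (subrepCompOrderIso ρ f hf).isSimpleOrder, rfl⟩

theorem IsChar.res {χ : G → ℂ} (h : IsCharacter G χ) (K : Subgroup G) :
    IsCharacter K (fun k : K => χ k) :=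
  IsChar.comp h K.subtype

theorem IsChar.eq_zero_of_one_eq_zero {χ : G → ℂ} (h : IsCharacter G χ) (h1 : χ 1 = 0) :
    χ = 0 := by
  obtain ⟨n, ρ, rfl⟩ := h
  have hn : n = 0 := by simpa using h1
  subst hn
  funext g
  have : ρ g = 0 := LinearMap.ext fun v => Subsingleton.elim _ _
  simp [Representation.character, this]

theorem IsChar.mul {χ ψ : G → ℂ} (h₁ : IsCharacter G χ) (h₂ : IsCharacter G ψ) :
    IsCharacter G (χ * ψ) := by
  obtain ⟨m, ρ, rfl⟩ := h₁
  obtain ⟨n, σ, rfl⟩ := h₂
  have := isCharacter_character (ρ.tprod σ)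
  rwa [Representation.char_tensor] at this

theorem IsChar.one : IsCharacter G (fun _ => (1 : ℂ)) :=
  CharBasic.IsIrr.isCharacter isIrrCharacter_one

theorem IsChar.pow {χ : G → ℂ} (h : IsCharacter G χ) (k : ℕ) :
    IsCharacter G (fun g => χ g ^ k) := by
  induction k with
  | zero => simpa using IsChar.one
  | succ k ih =>
    have := IsChar.mul ih h
    simpa [Pi.mul_def, pow_succ] using this

theorem IsChar.conj [Finite G] {χ : G → ℂ} (h : IsCharacter G χ) :
    IsCharacter G (fun g => conj (χ g)) := by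
  obtain ⟨n, ρ, rfl⟩ := h
  have := isCharacter_character ρ.dual
  convert! this using 1
  funext g
  rw [Representation.char_dual, character_inv]

end Pullback

section Coefficients

variable {G : Type u} [Group G] [Fintype G]

/-- A class function with natural number coefficients is a character. -/
theorem isCharacter_of_coeff {θ : G → ℂ} (hθ : IsClassFunction G θ)
    (h : ∀ ψ : IrrCharacter G, ∃ n : ℕ, classInner θ (ψ : G → ℂ) = n) : IsCharacter G θ := by
  choose n hn using h
  rw [classFunction_expansion hθ]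
  refine CharBasic.IsChar.sum _ _ fun ψ _ => ?_
  rw [hn ψ, Nat.cast_smul_eq_nsmul]
  exact CharBasic.IsChar.nsmul (CharBasic.IsIrr.isCharacter ψ.2) _

theorem IsGen.isClassFunction {G : Type u} [Group G] {θ : G → ℂ}
    (h : IsGeneralizedCharacter G θ) : IsClassFunction G θ := by
  obtain ⟨χ, ψ, hχ, hψ, rfl⟩ := h
  intro g x
  simp [CharBasic.IsChar.isClassFunction hχ g x, CharBasic.IsChar.isClassFunction hψ g x]

theorem IsGen.exists_int_coeff {θ χ : G → ℂ} (h : IsGeneralizedCharacter G θ)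
    (hχ : IsCharacter G χ) : ∃ n : ℤ, classInner θ χ = n := by
  obtain ⟨α, β, hα, hβ, rfl⟩ := h
  obtain ⟨a, ha⟩ := classInner_isChar_nat hα hχ
  obtain ⟨b, hb⟩ := classInner_isChar_nat hβ hχ
  exact ⟨(a : ℤ) - b, by rw [classInner_sub_left, ha, hb]; push_cast; ring⟩

/-- A class function with integer coefficients is a generalised character. -/
theorem isGeneralizedCharacter_of_coeff {θ : G → ℂ} (hθ : IsClassFunction G θ)
    (h : ∀ ψ : IrrCharacter G, ∃ n : ℤ, classInner θ (ψ : G → ℂ) = n) :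
    IsGeneralizedCharacter G θ := by
  choose n hn using h
  refine ⟨∑ ψ : IrrCharacter G, (n ψ).toNat • (ψ : G → ℂ),
    ∑ ψ : IrrCharacter G, (-n ψ).toNat • (ψ : G → ℂ), ?_, ?_, ?_⟩
  · exact CharBasic.IsChar.sum _ _
      fun ψ _ => CharBasic.IsChar.nsmul (CharBasic.IsIrr.isCharacter ψ.2) _
  · exact CharBasic.IsChar.sum _ _
      fun ψ _ => CharBasic.IsChar.nsmul (CharBasic.IsIrr.isCharacter ψ.2) _
  · conv_lhs => rw [classFunction_expansion hθ]
    rw [← Finset.sum_sub_distrib]
    refine Finset.sum_congr rfl fun ψ _ => ?_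
    rw [hn ψ, ← Nat.cast_smul_eq_nsmul ℂ, ← Nat.cast_smul_eq_nsmul ℂ, ← sub_smul]
    congr 1
    have := Int.toNat_sub_toNat_neg (n ψ)
    exact_mod_cast this.symm

theorem IsGen.of_char {G : Type u} [Group G] {χ : G → ℂ} (h : IsCharacter G χ) :
    IsGeneralizedCharacter G χ :=
  ⟨χ, 0, h, CharBasic.IsChar.zero, by simp⟩

theorem IsGen.add {G : Type u} [Group G] {α β : G → ℂ} (h₁ : IsGeneralizedCharacter G α)
    (h₂ : IsGeneralizedCharacter G β) : IsGeneralizedCharacter G (α + β) := by
  obtain ⟨a, b, ha, hb, rfl⟩ := h₁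
  obtain ⟨c, d, hc, hd, rfl⟩ := h₂
  exact ⟨a + c, b + d, CharBasic.IsChar.add ha hc, CharBasic.IsChar.add hb hd, by abel⟩

theorem IsGen.neg {G : Type u} [Group G] {α : G → ℂ} (h : IsGeneralizedCharacter G α) :
    IsGeneralizedCharacter G (-α) := by
  obtain ⟨a, b, ha, hb, rfl⟩ := h
  exact ⟨b, a, hb, ha, by abel⟩

theorem IsGen.sub {G : Type u} [Group G] {α β : G → ℂ} (h₁ : IsGeneralizedCharacter G α)
    (h₂ : IsGeneralizedCharacter G β) : IsGeneralizedCharacter G (α - β) := by
  rw [sub_eq_add_neg]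
  exact IsGen.add h₁ (IsGen.neg h₂)

theorem IsGen.zero {G : Type u} [Group G] : IsGeneralizedCharacter G (0 : G → ℂ) :=
  IsGen.of_char CharBasic.IsChar.zero

theorem IsGen.sum {G : Type u} [Group G] {ι : Type*} (s : Finset ι) (f : ι → G → ℂ)
    (h : ∀ i ∈ s, IsGeneralizedCharacter G (f i)) : IsGeneralizedCharacter G (∑ i ∈ s, f i) :=
  Finset.sum_induction f _ (fun _ _ => IsGen.add) IsGen.zero h

theorem IsGen.nsmul {G : Type u} [Group G] {α : G → ℂ} (h : IsGeneralizedCharacter G α) (n : ℕ) :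
    IsGeneralizedCharacter G (n • α) := by
  induction n with
  | zero => simpa using IsGen.zero
  | succ n ih => rw [succ_nsmul]; exact IsGen.add ih h

theorem IsGen.zsmul {G : Type u} [Group G] {α : G → ℂ} (h : IsGeneralizedCharacter G α) (n : ℤ) :
    IsGeneralizedCharacter G (n • α) := by
  rcases Int.eq_nat_or_neg n with ⟨k, rfl | rfl⟩
  · rw [natCast_zsmul]; exact IsGen.nsmul h k
  · rw [neg_zsmul, natCast_zsmul]; exact IsGen.neg (IsGen.nsmul h k)

theorem IsGen.mul {G : Type u} [Group G] {α β : G → ℂ} (h₁ : IsGeneralizedCharacter G α)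
    (h₂ : IsGeneralizedCharacter G β) : IsGeneralizedCharacter G (α * β) := by
  obtain ⟨a, b, ha, hb, rfl⟩ := h₁
  obtain ⟨c, d, hc, hd, rfl⟩ := h₂
  exact ⟨a * c + b * d, a * d + b * c, CharBasic.IsChar.add (IsChar.mul ha hc) (IsChar.mul hb hd),
    CharBasic.IsChar.add (IsChar.mul ha hd) (IsChar.mul hb hc), by ring⟩

theorem IsGen.comp {G : Type u} [Group G] {H : Type v} [Group H] {α : H → ℂ}
    (h : IsGeneralizedCharacter H α) (f : G →* H) :
    IsGeneralizedCharacter G (fun g => α (f g)) := by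
  obtain ⟨a, b, ha, hb, rfl⟩ := h
  exact ⟨_, _, IsChar.comp ha f, IsChar.comp hb f, rfl⟩

/-- A generalised character of norm one is an irreducible character up to sign. -/
theorem IsGen.eq_irr_or_neg {θ : G → ℂ} (h : IsGeneralizedCharacter G θ)
    (h1 : classInner θ θ = 1) : ∃ ψ : IrrCharacter G, θ = ψ ∨ θ = -(ψ : G → ℂ) := by
  classical
  have hcl := IsGen.isClassFunction h
  choose n hn using fun ψ : IrrCharacter G => IsGen.exists_int_coeff h
    (CharBasic.IsIrr.isCharacter ψ.2)
  have hsum : ∑ ψ : IrrCharacter G, n ψ ^ 2 = 1 := by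
    have := classInner_eq_sum (ψ := θ) hcl
    rw [h1] at this
    simp only [hn, map_intCast] at this
    have h' : ((∑ ψ : IrrCharacter G, n ψ ^ 2 : ℤ) : ℂ) = ((1 : ℤ) : ℂ) := by
      push_cast
      simpa [sq] using this.symm
    exact_mod_cast h'
  obtain ⟨ψ₀, hψ₀⟩ : ∃ ψ, n ψ ≠ 0 := by
    by_contra hc
    push Not at hc
    simp [hc] at hsum
  have hle : n ψ₀ ^ 2 = 1 := by
    refine le_antisymm ?_ ?_
    · rw [← hsum]
      exact Finset.single_le_sum (f := fun ψ => n ψ ^ 2) (fun ψ _ => sq_nonneg _) (Finset.mem_univ ψ₀)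
    · have : 0 < n ψ₀ ^ 2 := lt_of_le_of_ne (sq_nonneg _) (Ne.symm (pow_ne_zero _ hψ₀))
      omega
  have hrest : ∀ ψ, ψ ≠ ψ₀ → n ψ = 0 := by
    intro ψ hψ
    have h2 := Finset.add_sum_erase Finset.univ (fun ψ => n ψ ^ 2) (Finset.mem_univ ψ₀)
    rw [hle, hsum] at h2
    have h3 : ∑ x ∈ Finset.univ.erase ψ₀, n x ^ 2 = 0 := by linarith
    have h4 := (Finset.sum_eq_zero_iff_of_nonneg fun x _ => sq_nonneg (n x)).1 h3 ψ
      (Finset.mem_erase.2 ⟨hψ, Finset.mem_univ _⟩)
    exact eq_zero_of_pow_eq_zero h4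
  have hθ : θ = (n ψ₀ : ℂ) • (ψ₀ : G → ℂ) := by
    conv_lhs => rw [classFunction_expansion hcl]
    rw [Finset.sum_eq_single ψ₀]
    · rw [hn]
    · intro ψ _ hψ
      rw [hn, hrest ψ hψ]
      simp
    · simp
  refine ⟨ψ₀, ?_⟩
  rcases sq_eq_one_iff.1 hle with hm | hm
  · left; rw [hθ, hm]; simp
  · right; rw [hθ, hm]; simp

/-- A character of norm one is irreducible. -/
theorem isIrr_of_norm_one {χ : G → ℂ} (h : IsCharacter G χ) (h1 : classInner χ χ = 1) :
    IsIrrCharacter G χ := by
  obtain ⟨ψ, rfl | hneg⟩ := IsGen.eq_irr_or_neg (IsGen.of_char h) h1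
  · exact ψ.2
  · exfalso
    obtain ⟨a, ha⟩ := CharBasic.IsChar.exists_degree h
    obtain ⟨b, hb, hb'⟩ := CharBasic.IsIrr.exists_degree ψ.2
    have : ((a + b : ℕ) : ℂ) = 0 := by
      push_cast
      rw [← ha, ← hb', hneg]
      simp
    rw [Nat.cast_eq_zero] at this
    omega

theorem IsIrr.conj {χ : G → ℂ} (h : IsIrrCharacter G χ) :
    IsIrrCharacter G (fun g => conj (χ g)) := by
  refine isIrr_of_norm_one (IsChar.conj (CharBasic.IsIrr.isCharacter h)) ?_
  have := congrArg (starRingEnd ℂ) (classInner_irr_self h)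
  simpa [classInner_def] using this

end Coefficients

section Linear

variable {G : Type u} [Group G]

theorem isCharacter_hom (l : G →* ℂˣ) : IsCharacter G (fun g => (l g : ℂ)) := by
  let ρ : Representation ℂ G ℂ :=
    { toFun := fun g => (l g : ℂ) • (LinearMap.id : ℂ →ₗ[ℂ] ℂ)
      map_one' := by simp [Module.End.one_eq_id]
      map_mul' := fun a b => by ext; simp [mul_comm] }
  have := isCharacter_character ρ
  convert! this using 1
  funext g
  simp [Representation.character, ρ, LinearMap.trace_id]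

theorem norm_hom [Finite G] (l : G →* ℂˣ) (g : G) : ‖(l g : ℂ)‖ = 1 := by
  refine norm_eq_one_of_pow_orderOf (g := g) ?_
  rw [← Units.val_pow_eq_pow_val, ← map_pow, pow_orderOf_eq_one, map_one, Units.val_one]

theorem isIrrCharacter_hom [Fintype G] (l : G →* ℂˣ) :
    IsIrrCharacter G (fun g => (l g : ℂ)) := by
  refine isIrr_of_norm_one (isCharacter_hom l) ?_
  simp [classInner_def, Complex.mul_conj', norm_hom]

/-- An irreducible character of degree one is a homomorphism. -/
theorem IsChar.exists_hom_of_degree_one {χ : G → ℂ} (h : IsCharacter G χ) (h1 : χ 1 = 1) :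
    ∃ l : G →* ℂˣ, ∀ g, χ g = (l g : ℂ) := by
  obtain ⟨n, ρ, rfl⟩ := h
  have hn : n = 1 := by simpa using h1
  subst hn
  have hs : ∀ T : Module.End ℂ (Fin 1 → ℂ), T = LinearMap.trace ℂ _ T • LinearMap.id := by
    intro T
    obtain ⟨c, rfl⟩ : ∃ c : ℂ, T = c • LinearMap.id := by
      refine ⟨T 1 0, LinearMap.ext fun v => funext fun i => ?_⟩
      obtain rfl := Fin.eq_zero i
      have hv : v = v 0 • (1 : Fin 1 → ℂ) := funext fun j => by
        obtain rfl := Fin.eq_zero j; simp
      conv_lhs => rw [hv]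
      simp [mul_comm]
    simp [LinearMap.trace_id]
  have hmul : ∀ a b, ρ.character (a * b) = ρ.character a * ρ.character b := by
    intro a b
    simp only [Representation.character, map_mul]
    conv_lhs => rw [hs (ρ a), hs (ρ b)]
    simp [Module.End.mul_eq_comp, LinearMap.trace_id, mul_comm]
  let m : G →* ℂ := { toFun := ρ.character, map_one' := h1, map_mul' := hmul }
  exact ⟨m.toHomUnits, fun g => rfl⟩

/-- A character with `N` in its kernel comes from the quotient. -/
theorem IsChar.exists_deflate [Finite G] {χ : G → ℂ} (h : IsCharacter G χ) (N : Subgroup G)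
    [N.Normal] (hN : ∀ n ∈ N, χ n = χ 1) :
    ∃ ψ : G ⧸ N → ℂ, IsCharacter (G ⧸ N) ψ ∧ (∀ g : G, χ g = ψ g) ∧
      (IsIrrCharacter G χ → IsIrrCharacter (G ⧸ N) ψ) := by
  have key : ∀ (n : ℕ) (ρ : Representation ℂ G (Fin n → ℂ)), ρ.character = χ →
      N ≤ MonoidHom.ker ρ := fun n ρ e x hx =>
    (character_eq_finrank_iff ρ x).1 (by rw [e, hN x hx, ← e]; simp)
  by_cases hirr : IsIrrCharacter G χ
  · obtain ⟨n, ρ, hρ, e⟩ := hirr
    let σ : Representation ℂ (G ⧸ N) (Fin n → ℂ) := QuotientGroup.lift N ρ (key n ρ e)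
    haveI : Representation.IsIrreducible
        (MonoidHom.comp σ (QuotientGroup.mk' N) : Representation ℂ G (Fin n → ℂ)) := hρ
    exact ⟨σ.character, ⟨n, σ, rfl⟩, fun g => by rw [← e]; rfl, fun _ => ⟨n, σ,
      (subrepCompOrderIso σ (QuotientGroup.mk' N)
        (QuotientGroup.mk'_surjective N)).symm.isSimpleOrder, rfl⟩⟩
  · obtain ⟨n, ρ, e⟩ := h
    let σ : Representation ℂ (G ⧸ N) (Fin n → ℂ) := QuotientGroup.lift N ρ (key n ρ e)
    exact ⟨σ.character, ⟨n, σ, rfl⟩, fun g => by rw [← e]; rfl, fun h' => absurd h' hirr⟩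

end Linear

section Product

variable {G : Type u} [Group G] {H : Type v} [Group H]

theorem classInner_outer [Fintype G] [Fintype H] (a c : G → ℂ) (b d : H → ℂ) :
    classInner (fun x : G × H => a x.1 * b x.2) (fun x => c x.1 * d x.2)
      = classInner a c * classInner b d := by
  simp only [classInner_def, Nat.card_prod, Nat.cast_mul, mul_inv, map_mul, Fintype.sum_prod_type]
  rw [mul_mul_mul_comm, Finset.sum_mul_sum]
  congr 1
  exact Finset.sum_congr rfl fun x _ => Finset.sum_congr rfl fun y _ => by ring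

theorem isIrrCharacter_outer [Finite G] [Finite H] {φ : G → ℂ} {ψ : H → ℂ}
    (hφ : IsIrrCharacter G φ) (hψ : IsIrrCharacter H ψ) :
    IsIrrCharacter (G × H) (fun x => φ x.1 * ψ x.2) := by
  cases nonempty_fintype G
  cases nonempty_fintype H
  refine isIrr_of_norm_one ?_ ?_
  · exact IsChar.mul (IsChar.comp (CharBasic.IsIrr.isCharacter hφ) (MonoidHom.fst G H))
      (IsChar.comp (CharBasic.IsIrr.isCharacter hψ) (MonoidHom.snd G H))
  · rw [classInner_outer, classInner_irr_self hφ, classInner_irr_self hψ, mul_one]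

theorem exists_outer_of_isIrr [Finite G] [Finite H] {θ : G × H → ℂ}
    (hθ : IsIrrCharacter (G × H) θ) :
    ∃ (φ : G → ℂ) (ψ : H → ℂ), IsIrrCharacter G φ ∧ IsIrrCharacter H ψ ∧
      θ = fun x => φ x.1 * ψ x.2 := by
  classical
  cases nonempty_fintype G
  cases nonempty_fintype H
  by_contra hne
  have hzero : ∀ (φ : IrrCharacter G) (ψ : IrrCharacter H),
      classInner θ (fun x => (φ : G → ℂ) x.1 * (ψ : H → ℂ) x.2) = 0 := fun φ ψ =>
    classInner_irr_of_ne hθ (isIrrCharacter_outer φ.2 ψ.2)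
      fun e => hne ⟨φ, ψ, φ.2, ψ.2, e⟩
  have hcl := CharBasic.IsIrr.isClassFunction hθ
  have hF : ∀ ψ : IrrCharacter H, ∀ g : G,
      ∑ y : H, θ (g, y) * conj ((ψ : H → ℂ) y) = 0 := by
    intro ψ
    refine congrFun (eq_zero_of_classInner_eq_zero
      (f := fun g => ∑ y : H, θ (g, y) * conj ((ψ : H → ℂ) y)) ?_ ?_)
    · intro g x
      refine Finset.sum_congr rfl fun y _ => ?_
      have := hcl (g, y) (x, 1)
      simp only [Prod.mk_mul_mk, Prod.inv_mk, inv_one, mul_one, one_mul] at this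
      rw [this]
    · intro φ
      have := hzero φ ψ
      simp only [classInner_def, Fintype.sum_prod_type, map_mul, mul_eq_zero] at this
      have := this.resolve_left (by simp)
      rw [classInner_def, mul_eq_zero]
      right
      rw [← this]
      refine Finset.sum_congr rfl fun x _ => ?_
      rw [Finset.sum_mul]
      exact Finset.sum_congr rfl fun y _ => by ring
  have h0 : ∀ g : G, ∀ y : H, θ (g, y) = 0 := by
    intro g
    refine congrFun (eq_zero_of_classInner_eq_zero (f := fun y => θ (g, y)) ?_ ?_)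
    · intro y z
      have := hcl (g, y) (1, z)
      simpa using this
    · intro ψ
      rw [classInner_def, hF ψ g, mul_zero]
  exact CharBasic.IsIrr.one_ne_zero hθ (h0 1 1)

end Product

end Cfsg.Agent.CharInduce
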