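import Cfsg.Agent.CharInduce.Induce

/-!
# Induction along subgroup inclusions and quotients; elementary subgroups
-/

namespace Cfsg.Agent.CharInduce

open scoped ComplexConjugate
open Cfsg.Agent.CharBasic Finset

universe u v

variable {G : Type u} [Group G]

theorem indFun_congr [Fintype G] {H H' : Subgroup G} (e : H = H') {θ : H → ℂ} {θ' : H' → ℂ}
    (h : ∀ (x : G) (hx : x ∈ H) (hx' : x ∈ H'), θ ⟨x, hx⟩ = θ' ⟨x, hx'⟩) :
    indFun H θ = indFun H' θ' := by
  subst e
  rw [show θ = θ' from funext fun ⟨x, hx⟩ => h x hx hx]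

/-- Transport of a function on a subgroup of a subgroup. -/
noncomputable def mapFun {T : Subgroup G} (E : Subgroup T) (φ : E → ℂ) : E.map T.subtype → ℂ :=
  fun x => φ ((E.equivMapOfInjective T.subtype T.subtype_injective).symm x)

/-- Induction in stages for a subgroup of a subgroup. -/
theorem indFun_map [Fintype G] (T : Subgroup G) [Fintype T] (E : Subgroup T) (φ : E → ℂ) :
    indFun T (indFun E φ) = indFun (E.map T.subtype) (mapFun E φ) := by
  rw [← indFun_indFun (E.map T.subtype) T (Subgroup.map_subtype_le E) (mapFun E φ)]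
  congr 1
  refine indFun_congr (Subgroup.comap_map_eq_self_of_injective T.subtype_injective E).symm ?_
  intro x hx hx'
  simp only [mapFun]
  congr 1
  refine (E.equivMapOfInjective T.subtype T.subtype_injective).injective ?_
  rw [MulEquiv.apply_symm_apply]
  rfl

theorem isCharacter_mapFun {T : Subgroup G} {E : Subgroup T} {φ : E → ℂ} (h : IsCharacter E φ) :
    IsCharacter (E.map T.subtype) (mapFun E φ) :=
  IsChar.comp h (E.equivMapOfInjective T.subtype T.subtype_injective).symm.toMonoidHom

/-- Induction commutes with inflation. -/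
theorem indFun_comap [Fintype G] {Q : Type v} [Group Q] [Fintype Q] (f : G →* Q)
    (hf : Function.Surjective f) (H : Subgroup Q) (θ : H → ℂ) (g : G) :
    indFun (H.comap f) (fun x => θ ⟨f x, x.2⟩) g = indFun H θ (f g) := by
  classical
  have hext : ∀ y : G,
      extendByZero (H.comap f) (fun x => θ ⟨f x, x.2⟩) y = extendByZero H θ (f y) := by
    intro y
    by_cases hy : f y ∈ H
    · rw [extendByZero_of_mem _ (Subgroup.mem_comap.2 hy), extendByZero_of_mem _ hy]
    · rw [extendByZero_of_not_mem _ (fun h => hy (Subgroup.mem_comap.1 h)),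
        extendByZero_of_not_mem _ hy]
  have hfib : ∀ q : Q, #(univ.filter fun x : G => f x = q) = Nat.card f.ker := by
    intro q
    obtain ⟨g₀, rfl⟩ := hf q
    rw [Nat.card_eq_fintype_card, Fintype.card_subtype]
    refine Finset.card_equiv (Equiv.mulRight g₀⁻¹) fun x => ?_
    simp [MonoidHom.mem_ker, mul_inv_eq_one]
  have hsum : ∀ F : Q → ℂ, ∑ x : G, F (f x) = (Nat.card f.ker : ℂ) * ∑ q : Q, F q := by
    intro F
    rw [← sum_fiberwise univ f, mul_sum]
    refine sum_congr rfl fun q _ => ?_
    rw [sum_congr rfl (g := fun _ => F q) (fun x hx => by rw [(mem_filter.1 hx).2]), sum_const,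
      hfib, nsmul_eq_mul]
  have hcard : (Nat.card (H.comap f) : ℂ) = (Nat.card f.ker : ℂ) * (Nat.card H : ℂ) := by
    have h1 := hsum (extendByZero H (fun _ => 1))
    have hl : ∀ x : G, extendByZero H (fun _ => (1 : ℂ)) (f x)
        = if x ∈ H.comap f then 1 else 0 := by
      intro x
      split_ifs with hx
      · rw [extendByZero_of_mem _ (Subgroup.mem_comap.1 hx)]
      · rw [extendByZero_of_not_mem _ (fun h => hx (Subgroup.mem_comap.2 h))]
    haveI := Fintype.ofFinite H
    rw [sum_extendByZero, sum_congr rfl (fun x _ => hl x), sum_boole, sum_const, card_univ] at h1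
    simpa [Nat.card_eq_fintype_card (α := H.comap f), Fintype.card_subtype,
      Nat.card_eq_fintype_card (α := H)] using h1
  simp only [indFun_apply, hext, map_mul, map_inv]
  rw [hsum (fun q => extendByZero H θ (q⁻¹ * f g * q)), hcard]
  have := card_ne_zero_complex f.ker
  have := card_ne_zero_complex H
  field_simp

/-- Irreducible characters of abelian groups have degree one. -/
theorem IsIrr.degree_one_of_comm [Finite G] (hG : ∀ a b : G, a * b = b * a) {χ : G → ℂ}
    (hχ : IsIrrCharacter G χ) : χ 1 = 1 := by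
  haveI : IsMulCommutative G := ⟨⟨hG⟩⟩
  obtain ⟨n, ρ, hρ, rfl⟩ := hχ
  simp [Representation.IsIrreducible.finrank_eq_one_of_isMulCommutative ρ]

/-- Elementary groups are nilpotent. -/
theorem isNilpotent_of_isElementary [Finite G] {p : ℕ} [Fact p.Prime] (h : IsElementary p G) :
    Group.IsNilpotent G := by
  obtain ⟨x, hx, -, k, hk⟩ := h
  have hdvd : (Subgroup.center G).index ∣ p ^ k :=
    hk ▸ Subgroup.index_dvd_of_le ((Subgroup.zpowers_le).2 hx)
  obtain ⟨j, -, hj⟩ := (Nat.dvd_prime_pow Fact.out).1 hdvd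
  have hP : IsPGroup p (G ⧸ Subgroup.center G) :=
    IsPGroup.of_card (n := j) (by rw [← Subgroup.index_eq_card]; exact hj)
  exact Group.of_quotient_center_nilpotent hP.isNilpotent

theorem isElementary_congr {H : Type v} [Group H] {p : ℕ} (e : G ≃* H) (h : IsElementary p G) :
    IsElementary p H := by
  obtain ⟨x, hx, hcop, k, hk⟩ := h
  refine ⟨e x, ?_, by rwa [MulEquiv.orderOf_eq], k, ?_⟩
  · rw [Subgroup.mem_center_iff] at hx ⊢
    intro y
    obtain ⟨a, rfl⟩ := e.surjective y
    rw [← map_mul, hx a, map_mul]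
  · rw [← hk, ← Subgroup.index_map_equiv (Subgroup.zpowers x) e]
    congr 1
    exact (MonoidHom.map_zpowers e.toMonoidHom x).symm

theorem isElementary_map {p : ℕ} {T : Subgroup G} {E : Subgroup T} (h : IsElementary p E) :
    IsElementary p (E.map T.subtype) :=
  isElementary_congr (E.equivMapOfInjective T.subtype T.subtype_injective) h

theorem isElementary_subgroup [Finite G] {p : ℕ} [Fact p.Prime] (h : IsElementary p G)
    (H : Subgroup G) : IsElementary p H := by
  obtain ⟨x, hx, hcop, k, hk⟩ := h
  have hcyc : IsCyclic ((Subgroup.zpowers x).subgroupOf H) := by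
    refine isCyclic_of_injective
      (f := ({ toFun := fun a => ⟨((a : H) : G), Subgroup.mem_subgroupOf.1 a.2⟩
               map_one' := rfl
               map_mul' := fun _ _ => rfl } :
        (Subgroup.zpowers x).subgroupOf H →* Subgroup.zpowers x)) ?_
    intro a b hab
    have h1 : (((a : H) : G)) = ((b : H) : G) :=
      congrArg (fun z : Subgroup.zpowers x => (z : G)) hab
    exact Subtype.ext (Subtype.ext h1)
  obtain ⟨y, hy⟩ := hcyc.exists_generator
  have hygen : Subgroup.zpowers (y : H) = (Subgroup.zpowers x).subgroupOf H := by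
    apply le_antisymm ((Subgroup.zpowers_le).2 y.2)
    intro a ha
    obtain ⟨i, hi⟩ := Subgroup.mem_zpowers_iff.1 (hy ⟨a, ha⟩)
    exact Subgroup.mem_zpowers_iff.2 ⟨i, congrArg Subtype.val hi⟩
  have hyx : ((y : H) : G) ∈ Subgroup.zpowers x := Subgroup.mem_subgroupOf.1 y.2
  have hZ : Subgroup.zpowers x ≤ Subgroup.center G := (Subgroup.zpowers_le).2 hx
  refine ⟨(y : H), ?_, ?_, ?_⟩
  · rw [Subgroup.mem_center_iff]
    intro a
    exact Subtype.ext (Subgroup.mem_center_iff.1 (hZ hyx) a)
  · refine hcop.coprime_dvd_left ?_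
    rw [← Subgroup.orderOf_coe (y : H), ← Nat.card_zpowers x, ← Nat.card_zpowers ((y : H) : G)]
    exact Subgroup.card_dvd_of_le ((Subgroup.zpowers_le).2 hyx)
  · rw [hygen]
    haveI : (Subgroup.zpowers x).Normal :=
      ⟨fun a ha g => by rw [Subgroup.mem_center_iff.1 (hZ ha) g, mul_inv_cancel_right]; exact ha⟩
    have hdvd := Subgroup.relIndex_dvd_index_of_normal (Subgroup.zpowers x) H
    rw [hk] at hdvd
    obtain ⟨j, -, hj⟩ := (Nat.dvd_prime_pow Fact.out).1 hdvd
    exact ⟨j, hj⟩

end Cfsg.Agent.CharInduce
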