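import Cfsg.Agent.CharInduce.Induce

/-!
# The Clifford correspondence, uniqueness part
-/

namespace Cfsg.Agent.CharInduce

open scoped ComplexConjugate
open Cfsg.Agent.CharBasic Finset

universe u

variable {G : Type u} [Group G] [Fintype G] (N : Subgroup G) [hN : N.Normal]

/-- Restriction of a function on a subgroup containing `N` to `N`. -/
def resTo {T : Subgroup G} (hle : N ≤ T) (ψ : T → ℂ) : N → ℂ :=
  fun n => ψ ⟨(n : G), hle n.2⟩

omit [Fintype G] hN in
theorem isCharacter_resTo {T : Subgroup G} (hle : N ≤ T) {ψ : T → ℂ} (h : IsCharacter T ψ) :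
    IsCharacter N (resTo N hle ψ) :=
  IsChar.comp h (Subgroup.inclusion hle)

omit [Fintype G] hN in
theorem resTo_add {T : Subgroup G} (hle : N ≤ T) (a b : T → ℂ) :
    resTo N hle (a + b) = resTo N hle a + resTo N hle b := rfl

/-- Above `χ`, inside the inertia group, there is a unique constituent of a given character of the
whole group, and its multiplicity is the full one. -/
theorem correspondent_spec [Fintype N] {χ : N → ℂ} [Fintype (inertia N χ)]
    (hle : N ≤ inertia N χ) {θ : G → ℂ} (hθ : IsIrrCharacter G θ) (hχ : IsIrrCharacter N χ)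
    {φ : inertia N χ → ℂ} (hφ : IsIrrCharacter (inertia N χ) φ)
    (hind : indFun (inertia N χ) φ = θ) (f : ℕ)
    (hres : ∀ n : N, φ ⟨(n : G), hle n.2⟩ = (f : ℂ) * χ n) :
    classInner (fun n : N => θ n) χ = (f : ℂ) ∧
      ∀ ψ : inertia N χ → ℂ, IsIrrCharacter (inertia N χ) ψ →
        classInner (fun t : inertia N χ => θ t) ψ ≠ 0 →
        classInner (resTo N hle ψ) χ ≠ 0 → ψ = φ := by
  classical
  have hθc := CharBasic.IsIrr.isCharacter hθ
  have hT := IsChar.res hθc (inertia N χ)
  have hφN : resTo N hle φ = (f : ℂ) • χ := funext hres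
  have hone : classInner (fun t : inertia N χ => θ t) φ = 1 := by
    rw [← classInner_indFun_right (inertia N χ) φ θ (CharBasic.IsIrr.isClassFunction hθ), hind,
      classInner_irr_self hθ]
  obtain ⟨r, hr, her⟩ := IsChar.exists_eq_add hT hφ (by rw [hone]; exact one_ne_zero)
  have hsplit : (fun n : N => θ n) = resTo N hle φ + resTo N hle r := by
    rw [← resTo_add, ← her]
    rfl
  have hφχ : classInner (resTo N hle φ) χ = (f : ℂ) := by
    rw [hφN, classInner_smul_left, classInner_irr_self hχ, mul_one]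
  have hf : 0 < f := by
    refine Nat.pos_of_ne_zero fun h => ?_
    have h1 := hres 1
    rw [h, Nat.cast_zero, zero_mul] at h1
    exact CharBasic.IsIrr.one_ne_zero hφ h1
  obtain ⟨b, hb⟩ := classInner_isChar_nat (isCharacter_resTo N hle hr)
    (CharBasic.IsIrr.isCharacter hχ)
  have ha : classInner (fun n : N => θ n) χ = ((f + b : ℕ) : ℂ) := by
    rw [hsplit, classInner_add_left, hφχ, hb, Nat.cast_add]
  have hb0 : b = 0 := by
    have hne : classInner (fun n : N => θ n) χ ≠ 0 := by
      rw [ha, Nat.cast_ne_zero]; omega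
    have h2 := clifford_degree N hθ hχ hne
    have h3 := congrFun hind 1
    rw [indFun_one, show φ 1 = (f : ℂ) * χ 1 from hres 1, h2, ha] at h3
    obtain ⟨c, hc, hc'⟩ := CharBasic.IsIrr.exists_degree hχ
    rw [hc'] at h3
    have h4 : (inertia N χ).index * (f * c) = (f + b) * (inertia N χ).index * c := by
      exact_mod_cast h3
    have hi : 0 < (inertia N χ).index := Nat.pos_of_ne_zero Subgroup.FiniteIndex.index_ne_zero
    nlinarith [Nat.mul_pos hi hc]
  refine ⟨by rw [ha, hb0, add_zero], fun ψ hψ h1 h2 => by_contra fun hne => ?_⟩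
  have h3 : classInner r ψ ≠ 0 := by
    rw [her, classInner_add_left, classInner_irr_of_ne hφ hψ (Ne.symm hne), zero_add] at h1
    exact h1
  obtain ⟨r', hr', her'⟩ := IsChar.exists_eq_add hr hψ h3
  obtain ⟨c, hc⟩ := classInner_isChar_nat (isCharacter_resTo N hle (CharBasic.IsIrr.isCharacter hψ))
    (CharBasic.IsIrr.isCharacter hχ)
  obtain ⟨d, hd⟩ := classInner_isChar_nat (isCharacter_resTo N hle hr')
    (CharBasic.IsIrr.isCharacter hχ)
  rw [hc, Nat.cast_ne_zero] at h2
  rw [her', resTo_add, classInner_add_left, hc, hd, hb0, ← Nat.cast_add, Nat.cast_inj] at hb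
  omega

/-- The Clifford correspondence. -/
theorem clifford_correspondence [Fintype N] {χ : N → ℂ} (hχ : IsIrrCharacter N χ)
    (hle : N ≤ inertia N χ) {ψ : inertia N χ → ℂ} (hψ : IsIrrCharacter (inertia N χ) ψ)
    (hne : classInner (resTo N hle ψ) χ ≠ 0) :
    IsIrrCharacter G (indFun (inertia N χ) ψ) ∧
      classInner (fun n : N => indFun (inertia N χ) ψ n) χ = classInner (resTo N hle ψ) χ ∧
      ∀ ψ' : inertia N χ → ℂ, IsIrrCharacter (inertia N χ) ψ' →
        classInner (resTo N hle ψ') χ ≠ 0 →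
        indFun (inertia N χ) ψ' = indFun (inertia N χ) ψ → ψ' = ψ := by
  classical
  haveI := Fintype.ofFinite (inertia N χ)
  have hI : indFun (inertia N χ) ψ ≠ 0 := by
    intro h
    have h1 := congrFun h 1
    rw [indFun_one, Pi.zero_apply, mul_eq_zero] at h1
    rcases h1 with h1 | h1
    · exact Subgroup.FiniteIndex.index_ne_zero (H := inertia N χ) (Nat.cast_eq_zero.1 h1)
    · exact CharBasic.IsIrr.one_ne_zero hψ h1
  obtain ⟨θ, hθ⟩ :=
    exists_constituent (IsChar.ind (inertia N χ) (CharBasic.IsIrr.isCharacter hψ)) hI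
  have hθT : classInner (fun t : inertia N χ => (θ : G → ℂ) t) ψ ≠ 0 := by
    rw [classInner_indFun_left (inertia N χ) ψ _ (CharBasic.IsIrr.isClassFunction θ.2)] at hθ
    intro h
    apply hθ
    rw [← conj_classInner, h, map_zero]
  have hθN : classInner (fun n : N => (θ : G → ℂ) n) χ ≠ 0 := by
    obtain ⟨r, hr, her⟩ := IsChar.exists_eq_add
      (IsChar.res (CharBasic.IsIrr.isCharacter θ.2) (inertia N χ)) hψ hθT
    obtain ⟨a, ha⟩ := classInner_isChar_nat
      (isCharacter_resTo N hle (CharBasic.IsIrr.isCharacter hψ)) (CharBasic.IsIrr.isCharacter hχ)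
    obtain ⟨b, hb⟩ := classInner_isChar_nat (isCharacter_resTo N hle hr)
      (CharBasic.IsIrr.isCharacter hχ)
    rw [show (fun n : N => (θ : G → ℂ) n) = resTo N hle ψ + resTo N hle r by
      rw [← resTo_add, ← her]; rfl, classInner_add_left, ha, hb, ← Nat.cast_add, Nat.cast_ne_zero]
    rw [ha, Nat.cast_ne_zero] at hne
    omega
  obtain ⟨φ, hφ, hind, f, -, hres⟩ := exists_clifford_correspondent N θ.2 hχ hθN
  obtain ⟨hspec, huniq⟩ := correspondent_spec N hle θ.2 hχ hφ hind f hres
  have heq : ψ = φ := huniq ψ hψ hθT hne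
  subst heq
  refine ⟨hind ▸ θ.2, ?_, fun ψ' hψ' hne' he => huniq ψ' hψ' ?_ hne'⟩
  · rw [hind, hspec, show resTo N hle ψ = (f : ℂ) • χ from funext hres, classInner_smul_left,
      classInner_irr_self hχ, mul_one]
  · rw [← classInner_indFun_right (inertia N χ) ψ' _ (CharBasic.IsIrr.isClassFunction θ.2), he,
      hind, classInner_irr_self θ.2]
    exact one_ne_zero

end Cfsg.Agent.CharInduce
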