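import Cfsg.Agent.CharInduce.Induce

/-!
# The isometry lemma and exceptional characters
-/

namespace Cfsg.Agent.CharInduce.Isometry

open scoped ComplexConjugate
open Cfsg.Agent.CharBasic Finset

universe u

variable {G : Type u} [Group G] [Fintype G]

/-- A generalised character of norm two vanishing at one is a difference of two irreducibles. -/
theorem exists_eq_sub_of_norm_two {θ : G → ℂ} (h : IsGeneralizedCharacter G θ)
    (h1 : θ 1 = 0) (h2 : classInner θ θ = 2) :
    ∃ a b : IrrCharacter G, a ≠ b ∧ θ = (a : G → ℂ) - (b : G → ℂ) := by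
  classical
  have hcl := IsGen.isClassFunction h
  choose n hn using fun ψ : IrrCharacter G => IsGen.exists_int_coeff h
    (CharBasic.IsIrr.isCharacter ψ.2)
  choose d hdpos hd using fun ψ : IrrCharacter G => CharBasic.IsIrr.exists_degree ψ.2
  have hsum : ∑ ψ : IrrCharacter G, n ψ ^ 2 = 2 := by
    have := classInner_eq_sum (ψ := θ) hcl
    rw [h2] at this
    simp only [hn, map_intCast] at this
    have h' : ((∑ ψ : IrrCharacter G, n ψ ^ 2 : ℤ) : ℂ) = ((2 : ℤ) : ℂ) := by
      push_cast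
      simpa [sq] using this.symm
    exact_mod_cast h'
  have hexp : θ = ∑ ψ : IrrCharacter G, (n ψ : ℂ) • (ψ : G → ℂ) := by
    conv_lhs => rw [classFunction_expansion hcl]
    simp only [hn]
  have hdeg : ∑ ψ : IrrCharacter G, n ψ * d ψ = 0 := by
    have hc : ((∑ ψ : IrrCharacter G, n ψ * d ψ : ℤ) : ℂ) = ((0 : ℤ) : ℂ) := by
      rw [Int.cast_zero, ← h1, hexp]
      simp [Finset.sum_apply, hd]
    exact_mod_cast hc
  have hone : ∀ ψ, n ψ ^ 2 ≤ 1 := by
    intro ψ
    by_contra hc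
    have h4 : n ψ ^ 2 ≤ 2 := hsum ▸
      Finset.single_le_sum (f := fun ψ => n ψ ^ 2) (fun φ _ => sq_nonneg (n φ)) (mem_univ ψ)
    have hb : n ψ ≤ 1 ∧ -1 ≤ n ψ := ⟨by nlinarith, by nlinarith⟩
    rcases hb with ⟨hb1, hb2⟩
    interval_cases hx : n ψ <;> simp [hx] at hc
  have hval : ∀ ψ, n ψ ≠ 0 → n ψ = 1 ∨ n ψ = -1 := by
    intro ψ hψ
    have h1' := hone ψ
    exact sq_eq_one_iff.1 (le_antisymm h1'
      (by have : 0 < n ψ ^ 2 := lt_of_le_of_ne (sq_nonneg _) (Ne.symm (pow_ne_zero _ hψ)); omega))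
  have hcard : #(univ.filter fun ψ : IrrCharacter G => n ψ ≠ 0) = 2 := by
    have : ∑ ψ : IrrCharacter G, n ψ ^ 2 = ∑ ψ : IrrCharacter G, if n ψ ≠ 0 then (1 : ℤ) else 0 := by
      refine sum_congr rfl fun ψ _ => ?_
      split_ifs with hψ
      · rcases hval ψ hψ with e | e <;> simp [e]
      · push Not at hψ
        simp [hψ]
    rw [hsum, sum_boole] at this
    exact_mod_cast this.symm
  obtain ⟨p, q, hpq, hset⟩ := Finset.card_eq_two.1 hcard
  have hp : n p ≠ 0 := by
    have : p ∈ univ.filter fun ψ : IrrCharacter G => n ψ ≠ 0 := by rw [hset]; simp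
    simpa using this
  have hq : n q ≠ 0 := by
    have : q ∈ univ.filter fun ψ : IrrCharacter G => n ψ ≠ 0 := by rw [hset]; simp
    simpa using this
  have hsub : ∀ ψ, n ψ ≠ 0 → ψ ∈ ({p, q} : Finset (IrrCharacter G)) := by
    intro ψ hψ
    rw [← hset]
    simp [hψ]
  have hdeg2 : n p * d p + n q * d q = 0 := by
    rw [← Finset.sum_pair (f := fun ψ => n ψ * d ψ) hpq, ← hdeg]
    exact Finset.sum_subset (subset_univ _) fun ψ _ hψ => by
      rw [show n ψ = 0 from by_contra fun hc => hψ (hsub ψ hc), zero_mul]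
  have hθ : θ = (n p : ℂ) • (p : G → ℂ) + (n q : ℂ) • (q : G → ℂ) := by
    rw [hexp, ← Finset.sum_pair (f := fun ψ => (n ψ : ℂ) • (ψ : G → ℂ)) hpq]
    exact (Finset.sum_subset (subset_univ _) fun ψ _ hψ => by
      rw [show n ψ = 0 from by_contra fun hc => hψ (hsub ψ hc)]; simp).symm
  have hdp := hdpos p
  have hdq := hdpos q
  rcases hval p hp with ep | ep <;> rcases hval q hq with eq' | eq' <;>
    rw [ep, eq'] at hdeg2 hθ
  · omega
  · exact ⟨p, q, hpq, by rw [hθ]; simp [sub_eq_add_neg]⟩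
  · exact ⟨q, p, hpq.symm, by rw [hθ]; simp [sub_eq_add_neg, add_comm]⟩
  · omega

/-- Isometry lemma: a family of norm-two differences with pairwise inner product one shares one
irreducible character. -/
theorem exists_signed_family (n : ℕ) (i₀ : Fin n) (τ : Fin n → (G → ℂ)) (h0 : τ i₀ = 0)
    (hgen : ∀ i, IsGeneralizedCharacter G (τ i)) (hone : ∀ i, τ i 1 = 0)
    (hgram : ∀ i j, i ≠ i₀ → j ≠ i₀ → classInner (τ i) (τ j) = if i = j then 2 else 1) :
    ∃ ε : ℂ, (ε = 1 ∨ ε = -1) ∧ ∃ μ : Fin n → (G → ℂ), (∀ i, IsIrrCharacter G (μ i)) ∧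
      Function.Injective μ ∧ ∀ i, τ i = ε • (μ i - μ i₀) := by
  classical
  by_cases htriv : ∀ i, i = i₀
  · refine ⟨1, Or.inl rfl, fun _ => fun _ => 1, fun _ => isIrrCharacter_one, ?_, fun i => ?_⟩
    · intro i j _
      rw [htriv i, htriv j]
    · rw [htriv i, h0]; simp
  push Not at htriv
  obtain ⟨i₁, hi₁⟩ := htriv
  have hab : ∀ i : {i : Fin n // i ≠ i₀}, ∃ a b : IrrCharacter G, a ≠ b ∧
      τ i.1 = (a : G → ℂ) - (b : G → ℂ) := fun i =>
    exists_eq_sub_of_norm_two (hgen i.1) (hone i.1) (by rw [hgram i.1 i.1 i.2 i.2, if_pos rfl])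
  choose a b hne hτ using hab
  -- two different members share exactly one constituent, in the same position
  have hpair : ∀ i j : {i : Fin n // i ≠ i₀}, i ≠ j →
      (a i = a j ∧ b i ≠ b j ∨ a i ≠ a j ∧ b i = b j) ∧ a i ≠ b j := by
    intro i j hij
    have h := hgram i.1 j.1 i.2 j.2
    rw [if_neg (fun e => hij (Subtype.ext e)), hτ, hτ] at h
    simp only [classInner_sub_left, classInner_sub_right, classInner_irrCharacter] at h
    have hi := hne i
    have hj := hne j
    by_cases e1 : a i = a j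
    · by_cases e2 : b i = b j
      · have e3 : a i ≠ b j := e2 ▸ hi
        have e4 : b i ≠ a j := e1 ▸ hi.symm
        rw [if_pos e1, if_pos e2, if_neg e3, if_neg e4] at h
        norm_num at h
      · exact ⟨Or.inl ⟨e1, e2⟩, e1 ▸ hj⟩
    · by_cases e2 : b i = b j
      · exact ⟨Or.inr ⟨e1, e2⟩, e2 ▸ hi⟩
      · rw [if_neg e1, if_neg e2] at h
        split_ifs at h <;> norm_num at h
  let j₁ : {i : Fin n // i ≠ i₀} := ⟨i₁, hi₁⟩
  by_cases hA : ∀ j, a j = a j₁
  · -- common first constituent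
    refine ⟨-1, Or.inr rfl, fun i => if h : i = i₀ then (a j₁ : G → ℂ) else b ⟨i, h⟩, ?_, ?_, ?_⟩
    · intro i
      dsimp only
      split_ifs
      · exact (a j₁).2
      · exact (b _).2
    · intro i j hij
      dsimp only at hij
      split_ifs at hij with h h' h'
      · rw [h, h']
      · exact absurd (Subtype.ext hij) (by rw [← hA ⟨j, h'⟩]; exact hne _)
      · exact absurd (Subtype.ext hij).symm (by rw [← hA ⟨i, h⟩]; exact hne _)
      · by_contra hc
        have hp := (hpair ⟨i, h⟩ ⟨j, h'⟩ (fun e => hc (congrArg Subtype.val e))).1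
        rcases hp with ⟨-, e⟩ | ⟨e, -⟩
        · exact e (Subtype.ext hij)
        · exact e ((hA _).trans (hA _).symm)
    · intro i
      dsimp only
      by_cases h : i = i₀
      · subst h; rw [h0]; simp
      · rw [dif_neg h, dif_pos rfl, hτ ⟨i, h⟩, hA ⟨i, h⟩]
        simp
  · -- common second constituent
    push Not at hA
    obtain ⟨j₂, hj₂⟩ := hA
    have hB : ∀ j, b j = b j₁ := by
      have hne12 : j₂ ≠ j₁ := fun e => hj₂ (by rw [e])
      have e2 : b j₂ = b j₁ := by
        rcases (hpair j₂ j₁ hne12).1 with ⟨e, -⟩ | ⟨-, e⟩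
        · exact absurd e hj₂
        · exact e
      intro j
      by_cases hj1 : j = j₁
      · rw [hj1]
      rcases (hpair j j₁ hj1).1 with ⟨e, eb⟩ | ⟨-, e⟩
      · exfalso
        have hj2 : j ≠ j₂ := fun h => hj₂ (h ▸ e)
        rcases (hpair j j₂ hj2).1 with ⟨e', -⟩ | ⟨-, e'⟩
        · exact hj₂ (e'.symm.trans e)
        · exact eb (e'.trans e2)
      · exact e
    refine ⟨1, Or.inl rfl, fun i => if h : i = i₀ then (b j₁ : G → ℂ) else a ⟨i, h⟩, ?_, ?_, ?_⟩
    · intro i
      dsimp only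
      split_ifs
      · exact (b j₁).2
      · exact (a _).2
    · intro i j hij
      dsimp only at hij
      split_ifs at hij with h h' h'
      · rw [h, h']
      · exact absurd (Subtype.ext hij).symm (by rw [← hB ⟨j, h'⟩]; exact hne _)
      · exact absurd (Subtype.ext hij) (by rw [← hB ⟨i, h⟩]; exact hne _)
      · by_contra hc
        have hp := (hpair ⟨i, h⟩ ⟨j, h'⟩ (fun e => hc (congrArg Subtype.val e))).1
        rcases hp with ⟨-, e⟩ | ⟨e, -⟩
        · exact e ((hB _).trans (hB _).symm)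
        · exact e (Subtype.ext hij)
    · intro i
      dsimp only
      by_cases h : i = i₀
      · subst h; rw [h0]; simp
      · rw [dif_neg h, dif_pos rfl, hτ ⟨i, h⟩, hB ⟨i, h⟩]
        simp

/-- Exceptional characters of a trivial-intersection set. -/
theorem exceptional (S : Set G) (hSN : S ⊆ Subgroup.normalizer S)
    (hTI : ∀ g : G, g ∉ Subgroup.normalizer S → ∀ s ∈ S, g * s * g⁻¹ ∈ S → s = 1)
    (n : ℕ) (hn : 2 ≤ n) (χ : Fin n → (Subgroup.normalizer S → ℂ))
    (hirr : ∀ i, IsIrrCharacter (Subgroup.normalizer S) (χ i)) (hinj : Function.Injective χ)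
    (hvan : ∀ i, ∀ x : Subgroup.normalizer S, (x : G) ∉ S → χ i x = 0)
    (hdeg : ∀ i j, χ i 1 = χ j 1) :
    ∃ ε : ℂ, (ε = 1 ∨ ε = -1) ∧ ∃ θ : Fin n → (G → ℂ), (∀ i, IsIrrCharacter G (θ i)) ∧
      Function.Injective θ ∧ ∀ i j, indFun (Subgroup.normalizer S) (χ i)
        - indFun (Subgroup.normalizer S) (χ j) = ε • (θ i - θ j) := by
  classical
  haveI := Fintype.ofFinite (Subgroup.normalizer S)
  let i₀ : Fin n := ⟨0, by omega⟩
  let τ : Fin n → G → ℂ := fun i => indFun (Subgroup.normalizer S) (χ i - χ i₀)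
  have hgen : ∀ i, IsGeneralizedCharacter (Subgroup.normalizer S) (χ i - χ i₀) := fun i =>
    ⟨χ i, χ i₀, CharBasic.IsIrr.isCharacter (hirr i), CharBasic.IsIrr.isCharacter (hirr i₀), rfl⟩
  have h1 : ∀ i, (χ i - χ i₀) 1 = 0 := fun i => by simp [hdeg i i₀]
  have hgram : ∀ i j, i ≠ i₀ → j ≠ i₀ → classInner (τ i) (τ j) = if i = j then 2 else 1 := by
    intro i j hi hj
    rw [classInner_indFun_of_ti hTI _ _ (IsGen.isClassFunction (hgen j))
      (fun x hx => by simp [hvan _ x hx]) (fun x hx => by simp [hvan _ x hx]) (h1 i)]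
    simp only [classInner_sub_left, classInner_sub_right, classInner_irr (hirr _) (hirr _),
      hinj.eq_iff, if_neg hi, if_neg (Ne.symm hj), if_true]
    split_ifs <;> norm_num
  obtain ⟨ε, hε, μ, hμ, hμinj, he⟩ := exists_signed_family n i₀ τ
    (by simp [τ, indFun_zero]) (fun i => IsGen.ind _ (hgen i))
    (fun i => by simp [τ, indFun_one, hdeg i i₀]) hgram
  refine ⟨ε, hε, μ, hμ, hμinj, fun i j => ?_⟩
  have e := congrArg₂ (· - ·) (he i) (he j)
  simp only [τ, indFun_sub, sub_sub_sub_cancel_right, ← smul_sub] at e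
  exact e

end Cfsg.Agent.CharInduce.Isometry
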