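import Cfsg.Agent.CharInduce.Ops

/-!
# Counting the irreducible characters fixed by a twist (Brauer's permutation lemma)
-/

namespace Cfsg.Agent.CharInduce

open scoped ComplexConjugate
open Cfsg.Agent.CharBasic Finset

variable {G : Type*} [Group G] [Finite G]

/-- If `σ : G → G` permutes irreducible characters by composition, then `|G|` times the number of
fixed ones is the number of pairs `(g, x)` with `x g x⁻¹ = σ g`. -/
theorem card_fixed_irr_mul (σ : G → G)
    (hσ : ∀ χ : IrrCharacter G, IsIrrCharacter G ((χ : G → ℂ) ∘ σ)) :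
    Nat.card {χ : IrrCharacter G // (χ : G → ℂ) ∘ σ = χ} * Nat.card G
      = Nat.card {p : G × G // p.2 * p.1 * p.2⁻¹ = σ p.1} := by
  classical
  cases nonempty_fintype G
  have h1 : ∑ χ : IrrCharacter G, classInner ((χ : G → ℂ) ∘ σ) χ
      = (Nat.card {χ : IrrCharacter G // (χ : G → ℂ) ∘ σ = χ} : ℂ) := by
    simp only [fun χ : IrrCharacter G => classInner_irr (hσ χ) χ.2]
    rw [sum_boole, Nat.card_eq_fintype_card, Fintype.card_subtype]
  have h2 : ∑ χ : IrrCharacter G, classInner ((χ : G → ℂ) ∘ σ) χ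
      = (Nat.card G : ℂ)⁻¹ * ∑ g : G, (Nat.card {x : G // x * g * x⁻¹ = σ g} : ℂ) := by
    simp only [classInner_def, ← Finset.mul_sum, Function.comp_apply]
    rw [Finset.sum_comm]
    congr 1
    exact Finset.sum_congr rfl fun g _ => second_orthogonality_count (σ g) g
  have h3 : Nat.card {p : G × G // p.2 * p.1 * p.2⁻¹ = σ p.1}
      = ∑ g : G, Nat.card {x : G // x * g * x⁻¹ = σ g} := by
    rw [← Nat.card_sigma]
    exact Nat.card_congr (Equiv.subtypeProdEquivSigmaSubtype fun g x => x * g * x⁻¹ = σ g)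
  have h : ((Nat.card {χ : IrrCharacter G // (χ : G → ℂ) ∘ σ = χ} * Nat.card G : ℕ) : ℂ)
      = ((Nat.card {p : G × G // p.2 * p.1 * p.2⁻¹ = σ p.1} : ℕ) : ℂ) := by
    rw [h3]
    push_cast
    rw [← h1, h2]
    have := card_ne_zero_complex G
    field_simp
  exact_mod_cast h

/-- Brauer's permutation lemma. -/
theorem card_fixed_irr_eq_card_fixed_classes (σ : G → G)
    (hσ : ∀ χ : IrrCharacter G, IsIrrCharacter G ((χ : G → ℂ) ∘ σ)) :
    Nat.card {χ : IrrCharacter G // (χ : G → ℂ) ∘ σ = χ}
      = Nat.card {C : ConjClasses G // ∀ g : G, ConjClasses.mk g = C → IsConj g (σ g)} := by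
  classical
  cases nonempty_fintype G
  haveI : Finite (ConjClasses G) := Finite.of_surjective _ ConjClasses.mk_surjective
  haveI : Fintype (ConjClasses G) := Fintype.ofFinite _
  have hclass : ∀ g h : G, IsConj g h → IsConj g (σ g) → IsConj h (σ h) := by
    intro g h hgh hg
    have hσgh : IsConj (σ g) (σ h) := (isConj_iff_forall_irr _ _).2 fun χ =>
      (isConj_iff_forall_irr g h).1 hgh ⟨_, hσ χ⟩
    exact (hgh.symm.trans hg).trans hσgh
  refine mul_right_cancel₀ (Nat.card_pos (α := G)).ne' ((card_fixed_irr_mul σ hσ).trans ?_)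
  -- pairs are in bijection with (fixed class) × G, via the orbit map
  have hcount : ∀ g : G, Nat.card {x : G // x * g * x⁻¹ = σ g}
      = if IsConj g (σ g) then Nat.card {x : G // x * g * x⁻¹ = g} else 0 := by
    intro g
    split_ifs with hg
    · obtain ⟨c, hc⟩ := isConj_iff.1 hg
      refine Nat.card_congr (Equiv.subtypeEquiv (Equiv.mulLeft c⁻¹) fun x => ?_)
      simp only [Equiv.coe_mulLeft]
      rw [← hc]
      constructor
      · intro e
        calc c⁻¹ * x * g * (c⁻¹ * x)⁻¹ = c⁻¹ * (x * g * x⁻¹) * c := by group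
          _ = g := by rw [e]; group
      · intro e
        calc x * g * x⁻¹ = c * (c⁻¹ * x * g * (c⁻¹ * x)⁻¹) * c⁻¹ := by group
          _ = _ := by rw [e]
    · haveI : IsEmpty {x : G // x * g * x⁻¹ = σ g} := ⟨fun x => hg (isConj_iff.2 ⟨x.1, x.2⟩)⟩
      exact Nat.card_of_isEmpty
  have hcls : ∀ C : ConjClasses G, ∀ g : G, ConjClasses.mk g = C →
      #(univ.filter fun a : G => ConjClasses.mk a = C) * Nat.card {x : G // x * g * x⁻¹ = g}
        = Nat.card G := by
    rintro C g rfl
    have hfib : ∀ a ∈ univ.filter (fun a : G => ConjClasses.mk a = ConjClasses.mk g),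
        #(univ.filter fun x : G => x * g * x⁻¹ = a) = Nat.card {x : G // x * g * x⁻¹ = g} := by
      intro a ha
      obtain ⟨c, hc⟩ := isConj_iff.1 (ConjClasses.mk_eq_mk_iff_isConj.1 (mem_filter.1 ha).2).symm
      rw [Nat.card_eq_fintype_card, Fintype.card_subtype]
      refine Finset.card_equiv (Equiv.mulLeft c⁻¹) fun x => ?_
      simp only [mem_filter, mem_univ, true_and, Equiv.coe_mulLeft]
      rw [← hc]
      constructor
      · intro e
        calc c⁻¹ * x * g * (c⁻¹ * x)⁻¹ = c⁻¹ * (x * g * x⁻¹) * c := by group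
          _ = g := by rw [e]; group
      · intro e
        calc x * g * x⁻¹ = c * (c⁻¹ * x * g * (c⁻¹ * x)⁻¹) * c⁻¹ := by group
          _ = _ := by rw [e]
    have := Finset.card_eq_sum_card_fiberwise (s := (univ : Finset G))
      (t := univ.filter fun a : G => ConjClasses.mk a = ConjClasses.mk g)
      (f := fun x : G => x * g * x⁻¹) (fun x _ => by
        simp only [coe_filter, mem_univ, true_and, Set.mem_setOf_eq]
        exact ConjClasses.mk_eq_mk_iff_isConj.2 (isConj_iff.2 ⟨x, rfl⟩).symm)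
    rw [Finset.sum_congr rfl hfib, Finset.sum_const, smul_eq_mul, card_univ,
      ← Nat.card_eq_fintype_card] at this
    exact this.symm
  have h3 : Nat.card {p : G × G // p.2 * p.1 * p.2⁻¹ = σ p.1}
      = ∑ g : G, Nat.card {x : G // x * g * x⁻¹ = σ g} := by
    rw [← Nat.card_sigma]
    exact Nat.card_congr (Equiv.subtypeProdEquivSigmaSubtype fun g x => x * g * x⁻¹ = σ g)
  rw [h3]
  simp only [hcount]
  rw [← Finset.sum_fiberwise univ (fun g : G => ConjClasses.mk g)]
  have hfin : ∀ C : ConjClasses G,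
      ∑ g ∈ univ.filter (fun g : G => ConjClasses.mk g = C),
        (if IsConj g (σ g) then Nat.card {x : G // x * g * x⁻¹ = g} else 0)
      = if (∀ g : G, ConjClasses.mk g = C → IsConj g (σ g)) then Nat.card G else 0 := by
    intro C
    obtain ⟨g₀, rfl⟩ := ConjClasses.exists_rep C
    split_ifs with h
    · rw [← hcls _ g₀ rfl, ← smul_eq_mul, ← Finset.sum_const]
      refine Finset.sum_congr rfl fun g hg => ?_
      have hg' := (mem_filter.1 hg).2
      rw [if_pos (h g hg')]
      have h1 := hcls _ g hg'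
      have h2 := hcls _ g₀ rfl
      have hpos : 0 < #(univ.filter fun a : G => ConjClasses.mk a = ConjClasses.mk g₀) :=
        Finset.card_pos.2 ⟨g₀, by simp⟩
      exact Nat.eq_of_mul_eq_mul_left hpos (h1.trans h2.symm)
    · refine Finset.sum_eq_zero fun g hg => if_neg fun hc => h fun a ha => ?_
      exact hclass g a (ConjClasses.mk_eq_mk_iff_isConj.1 ((mem_filter.1 hg).2.trans ha.symm)) hc
  rw [Finset.sum_congr rfl (fun C _ => hfin C), ← Finset.sum_filter, Finset.sum_const, smul_eq_mul,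
    Nat.card_eq_fintype_card (α := {C : ConjClasses G // _}), Fintype.card_subtype]

theorem isIrr_comp_mulEquiv (α : G ≃* G) (χ : IrrCharacter G) :
    IsIrrCharacter G ((χ : G → ℂ) ∘ α) :=
  IsIrr.comp χ.2 α.toMonoidHom α.surjective

theorem irr_comp_inv (χ : IrrCharacter G) :
    (χ : G → ℂ) ∘ (·⁻¹) = fun g => conj ((χ : G → ℂ) g) := by
  funext g
  exact CharBasic.IsChar.inv_apply (CharBasic.IsIrr.isCharacter χ.2) g

theorem isIrr_comp_inv (χ : IrrCharacter G) : IsIrrCharacter G ((χ : G → ℂ) ∘ (·⁻¹)) := by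
  cases nonempty_fintype G
  rw [irr_comp_inv]
  exact IsIrr.conj χ.2

/-- In a group of odd order only the trivial irreducible character is real. -/
theorem eq_one_of_real_of_odd (hodd : Odd (Nat.card G)) {χ : G → ℂ} (hχ : IsIrrCharacter G χ)
    (hreal : ∀ g, conj (χ g) = χ g) : χ = fun _ => 1 := by
  have hpairs : Nat.card {p : G × G // p.2 * p.1 * p.2⁻¹ = p.1⁻¹} = Nat.card G := by
    refine Nat.card_congr ⟨fun p => p.1.2, fun x => ⟨(1, x), by simp⟩, ?_, fun x => rfl⟩
    rintro ⟨⟨g, x⟩, hx⟩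
    simp only at hx
    have hg1 : g = 1 := by
      -- `x ^ 2` centralises `g`, hence so does `x`
      have h2 : Commute (x ^ 2) g := by
        show x ^ 2 * g = g * x ^ 2
        have e2 : x * g⁻¹ * x⁻¹ = g := by
          have := congrArg (·⁻¹) hx
          simpa [mul_assoc] using this
        calc x ^ 2 * g = x * (x * g * x⁻¹) * x := by rw [pow_two]; group
          _ = x * g⁻¹ * x := by rw [hx]
          _ = (x * g⁻¹ * x⁻¹) * x ^ 2 := by rw [pow_two]; group
          _ = g * x ^ 2 := by rw [e2]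
      obtain ⟨m, hm⟩ : Odd (orderOf x) := Odd.of_dvd_nat hodd (orderOf_dvd_natCard x)
      have hx2 : x = (x ^ 2) ^ (m + 1) := by
        rw [← pow_mul, show 2 * (m + 1) = orderOf x + 1 by omega, pow_succ, pow_orderOf_eq_one,
          one_mul]
      have hcomm : Commute x g := by rw [hx2]; exact h2.pow_left _
      rw [hcomm.eq, mul_inv_cancel_right] at hx
      have hg2 : orderOf g ∣ 2 := orderOf_dvd_of_pow_eq_one (by
        rw [pow_two]; exact mul_eq_one_iff_eq_inv.2 hx)
      rcases (Nat.dvd_prime Nat.prime_two).1 hg2 with h | h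
      · exact orderOf_eq_one_iff.1 h
      · exfalso
        have := orderOf_dvd_natCard g
        rw [h] at this
        exact (Nat.not_even_iff_odd.2 hodd) (even_iff_two_dvd.2 this)
    subst hg1
    rfl
  have hone := card_fixed_irr_mul (fun g : G => g⁻¹) isIrr_comp_inv
  rw [hpairs, Nat.mul_eq_right Nat.card_pos.ne'] at hone
  obtain ⟨hsub, -⟩ := Nat.card_eq_one_iff_unique.1 hone
  let a : {φ : IrrCharacter G // (φ : G → ℂ) ∘ (fun g => g⁻¹) = φ} :=
    ⟨⟨χ, hχ⟩, (irr_comp_inv ⟨χ, hχ⟩).trans (funext hreal)⟩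
  let b : {φ : IrrCharacter G // (φ : G → ℂ) ∘ (fun g => g⁻¹) = φ} :=
    ⟨⟨_, isIrrCharacter_one⟩, rfl⟩
  exact congrArg (fun c => ((c.1 : IrrCharacter G) : G → ℂ)) (Subsingleton.elim a b)

end Cfsg.Agent.CharInduce
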