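import Cfsg.Agent.CharInduce.Ops

/-!
# Induced characters, constituents, and Clifford theory
-/

namespace Cfsg.Agent.CharInduce

open scoped ComplexConjugate
open Cfsg.Agent.CharBasic Module Finset

universe u

variable {G : Type u} [Group G] [Fintype G]

theorem classInner_indFun_nat (H : Subgroup G) [Fintype H] {θ : H → ℂ} {χ : G → ℂ}
    (hθ : IsCharacter H θ) (hχ : IsCharacter G χ) :
    ∃ n : ℕ, classInner (indFun H θ) χ = n := by
  rw [classInner_indFun_left H θ χ (CharBasic.IsChar.isClassFunction hχ)]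
  exact classInner_isChar_nat hθ (IsChar.res hχ H)

/-- Induced characters are characters. -/
theorem IsChar.ind (H : Subgroup G) {θ : H → ℂ} (hθ : IsCharacter H θ) :
    IsCharacter G (indFun H θ) :=
  haveI := Fintype.ofFinite H
  isCharacter_of_coeff (isClassFunction_indFun H θ) fun ψ =>
    classInner_indFun_nat H hθ (CharBasic.IsIrr.isCharacter ψ.2)

theorem IsGen.ind (H : Subgroup G) {θ : H → ℂ} (hθ : IsGeneralizedCharacter H θ) :
    IsGeneralizedCharacter G (indFun H θ) := by
  obtain ⟨a, b, ha, hb, rfl⟩ := hθ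
  exact ⟨_, _, IsChar.ind H ha, IsChar.ind H hb, indFun_sub H a b⟩

/-- The constituents of a character: every character has a non-negative coefficient, and a
character with zero coefficient everywhere vanishes. -/
theorem exists_constituent {χ : G → ℂ} (h : IsCharacter G χ) (h0 : χ ≠ 0) :
    ∃ ψ : IrrCharacter G, classInner χ (ψ : G → ℂ) ≠ 0 := by
  by_contra hc
  push Not at hc
  exact h0 (eq_zero_of_classInner_eq_zero (CharBasic.IsChar.isClassFunction h) hc)

/-- An irreducible constituent splits off. -/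
theorem IsChar.exists_eq_add {χ : G → ℂ} (h : IsCharacter G χ) {ψ : G → ℂ}
    (hψ : IsIrrCharacter G ψ) (hne : classInner χ ψ ≠ 0) :
    ∃ r : G → ℂ, IsCharacter G r ∧ χ = ψ + r := by
  classical
  refine ⟨χ - ψ, isCharacter_of_coeff ?_ fun φ => ?_, by abel⟩
  · intro g x
    simp [CharBasic.IsChar.isClassFunction h g x, CharBasic.IsIrr.isClassFunction hψ g x]
  · obtain ⟨n, hn⟩ := classInner_isChar_nat h (CharBasic.IsIrr.isCharacter φ.2)
    rw [classInner_sub_left, hn, classInner_irr hψ φ.2]
    split_ifs with e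
    · subst e
      refine ⟨n - 1, ?_⟩
      rw [Nat.cast_sub, Nat.cast_one]
      rcases Nat.eq_zero_or_pos n with rfl | hpos
      · simp [hn] at hne
      · exact hpos
    · exact ⟨n, by simp⟩

theorem IsChar.degree_le_of_constituent {χ : G → ℂ} (h : IsCharacter G χ) {ψ : G → ℂ}
    (hψ : IsIrrCharacter G ψ) (hne : classInner χ ψ ≠ 0) {a b : ℕ} (ha : ψ 1 = a) (hb : χ 1 = b) :
    a ≤ b := by
  obtain ⟨r, hr, rfl⟩ := IsChar.exists_eq_add h hψ hne
  obtain ⟨c, hc⟩ := CharBasic.IsChar.exists_degree hr
  have : ((a + c : ℕ) : ℂ) = (b : ℂ) := by rw [← hb, Nat.cast_add, ← ha, ← hc]; rfl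
  rw [Nat.cast_inj] at this
  omega

section Conjugates

variable (N : Subgroup G) [hN : N.Normal]

omit [Fintype G] in
theorem conjFun_eq_comp (χ : N → ℂ) (x : G) :
    conjFun N χ x = fun n => χ ((MulAut.conjNormal x).toMonoidHom n) := by
  funext n
  simp only [conjFun]
  congr 1

omit [Fintype G] in
theorem isCharacter_conjFun {χ : N → ℂ} (h : IsCharacter N χ) (x : G) :
    IsCharacter N (conjFun N χ x) := by
  rw [conjFun_eq_comp]
  exact IsChar.comp h _

omit [Fintype G] in
theorem isIrrCharacter_conjFun {χ : N → ℂ} (h : IsIrrCharacter N χ) (x : G) :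
    IsIrrCharacter N (conjFun N χ x) := by
  rw [conjFun_eq_comp]
  exact IsIrr.comp h _ (MulAut.conjNormal x).surjective

omit [Fintype G] in
theorem conjFun_mul (χ : N → ℂ) (x y : G) : conjFun N (conjFun N χ x) y = conjFun N χ (x * y) := by
  funext n
  simp [conjFun, mul_assoc]

omit [Fintype G] in
theorem conjFun_one (χ : N → ℂ) : conjFun N χ 1 = χ := by
  funext n
  simp [conjFun]

omit [Fintype G] in
theorem classInner_conjFun_conjFun [Fintype N] (φ ψ : N → ℂ) (x : G) :
    classInner (conjFun N φ x) (conjFun N ψ x) = classInner φ ψ := by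
  rw [conjFun_eq_comp, conjFun_eq_comp, classInner, classInner]
  congr 1
  exact Fintype.sum_equiv (MulAut.conjNormal x).toEquiv _ _ fun n => rfl

omit [Fintype G] in
theorem conjFun_res {θ : G → ℂ} (hθ : IsClassFunction G θ) (x : G) :
    conjFun N (fun n : N => θ n) x = fun n : N => θ n := by
  funext n
  exact hθ (n : G) x

omit [Fintype G] in
theorem classInner_res_conjFun [Fintype N] {θ : G → ℂ} (hθ : IsClassFunction G θ) (χ : N → ℂ)
    (x : G) :
    classInner (fun n : N => θ n) (conjFun N χ x) = classInner (fun n : N => θ n) χ := by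
  conv_lhs => rw [← conjFun_res N hθ x]
  rw [classInner_conjFun_conjFun]

/-- The stabiliser of a function on a normal subgroup. -/
def inertia (χ : N → ℂ) : Subgroup G where
  carrier := {x | conjFun N χ x = χ}
  one_mem' := conjFun_one N χ
  mul_mem' := fun {a b} ha hb => by
    show conjFun N χ (a * b) = χ
    rw [← conjFun_mul, ha, hb]
  inv_mem' := fun {a} ha => by
    show conjFun N χ a⁻¹ = χ
    conv_lhs => rw [← ha]
    rw [conjFun_mul, mul_inv_cancel, conjFun_one]

omit [Fintype G] in
theorem mem_inertia {χ : N → ℂ} {x : G} : x ∈ inertia N χ ↔ conjFun N χ x = χ := Iff.rfl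

omit [Fintype G] in
theorem le_inertia {χ : N → ℂ} (hχ : IsClassFunction N χ) : N ≤ inertia N χ := by
  intro x hx
  funext n
  exact hχ n ⟨x, hx⟩

omit [Fintype G] in
theorem conjFun_eq_iff (χ : N → ℂ) (x y : G) :
    conjFun N χ x = conjFun N χ y ↔ x * y⁻¹ ∈ inertia N χ := by
  rw [mem_inertia, ← conjFun_mul]
  constructor
  · intro h
    rw [h, conjFun_mul, mul_inv_cancel, conjFun_one]
  · intro h
    conv_rhs => rw [← h]
    rw [conjFun_mul, conjFun_mul, inv_mul_cancel, mul_one]

omit hN in
theorem indFun_res_normal [N.Normal] (χ : N → ℂ) :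
    (fun n : N => indFun N χ n) = (Nat.card N : ℂ)⁻¹ • ∑ x : G, conjFun N χ x := by
  funext n
  simp [indFun_normal_coe, Finset.sum_apply]

/-- Irreducible characters of `N` below the same irreducible character of `G` are conjugate. -/
theorem exists_conjFun_eq_of_constituent [Fintype N] {θ : G → ℂ} (hθ : IsIrrCharacter G θ)
    {χ ψ : N → ℂ} (hχ : IsIrrCharacter N χ) (hψ : IsIrrCharacter N ψ)
    (h1 : classInner (fun n : N => θ n) χ ≠ 0) (h2 : classInner (fun n : N => θ n) ψ ≠ 0) :
    ∃ x : G, ψ = conjFun N χ x := by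
  classical
  by_contra hne
  push Not at hne
  have hθc := CharBasic.IsIrr.isCharacter hθ
  have hcon : classInner (indFun N χ) θ ≠ 0 := by
    rw [classInner_indFun_left N χ θ (CharBasic.IsChar.isClassFunction hθc)]
    intro h
    apply h1
    rw [← conj_classInner, h, map_zero]
  obtain ⟨r, hr, he⟩ := IsChar.exists_eq_add (IsChar.ind N (CharBasic.IsIrr.isCharacter hχ)) hθ hcon
  have h0 : classInner (fun n : N => indFun N χ n) ψ = 0 := by
    rw [indFun_res_normal, classInner_smul_left, classInner_sum_left]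
    simp [fun x => classInner_irr_of_ne (isIrrCharacter_conjFun N hχ x) hψ (hne x).symm]
  rw [he] at h0
  have h3 : classInner (fun n : N => θ n) ψ + classInner (fun n : N => r n) ψ = 0 := by
    rw [← classInner_add_left]
    exact h0
  obtain ⟨a, ha⟩ := classInner_isChar_nat (IsChar.res hθc N) (CharBasic.IsIrr.isCharacter hψ)
  obtain ⟨b, hb⟩ := classInner_isChar_nat (IsChar.res hr N) (CharBasic.IsIrr.isCharacter hψ)
  rw [ha, hb, ← Nat.cast_add, Nat.cast_eq_zero] at h3
  rw [ha] at h2
  exact h2 (by rw [(by omega : a = 0)]; simp)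

/-- Clifford's theorem, averaged form. -/
theorem clifford_avg [Fintype N] {θ : G → ℂ} (hθ : IsIrrCharacter G θ) {χ : N → ℂ}
    (hχ : IsIrrCharacter N χ) (h1 : classInner (fun n : N => θ n) χ ≠ 0) :
    (Nat.card (inertia N χ) : ℂ) • (fun n : N => θ n)
      = classInner (fun n : N => θ n) χ • ∑ x : G, conjFun N χ x := by
  classical
  have hcl := CharBasic.IsIrr.isClassFunction hθ
  refine classFunction_ext ?_ ?_ fun ψ => ?_
  · intro a b
    simp only [Pi.smul_apply, smul_eq_mul, Subgroup.coe_mul, InvMemClass.coe_inv]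
    rw [hcl]
  · intro a b
    simp only [Pi.smul_apply, Finset.sum_apply]
    congr 1
    exact Finset.sum_congr rfl fun x _ =>
      CharBasic.IsIrr.isClassFunction (isIrrCharacter_conjFun N hχ x) a b
  rw [classInner_smul_left, classInner_smul_left, classInner_sum_left]
  simp only [classInner_irr (isIrrCharacter_conjFun N hχ _) ψ.2, sum_boole]
  by_cases hc : ∃ x : G, (ψ : N → ℂ) = conjFun N χ x
  · obtain ⟨x₀, hx₀⟩ := hc
    have hcard : #(univ.filter fun x : G => conjFun N χ x = (ψ : N → ℂ))
        = Nat.card (inertia N χ) := by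
      rw [Nat.card_eq_fintype_card, Fintype.card_subtype]
      refine Finset.card_equiv (Equiv.mulRight x₀⁻¹) fun x => ?_
      simp [hx₀, conjFun_eq_iff]
    rw [hcard, hx₀, classInner_res_conjFun N hcl, mul_comm]
  · have hz : classInner (fun n : N => θ n) (ψ : N → ℂ) = 0 := by
      by_contra h
      exact hc (exists_conjFun_eq_of_constituent N hθ hχ ψ.2 h1 h)
    rw [hz, mul_zero, Finset.filter_false_of_mem (fun x _ e => hc ⟨x, e.symm⟩)]
    simp

/-- Clifford's theorem: restriction is a multiple of the sum of the distinct conjugates. -/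
theorem clifford [Fintype N] {θ : G → ℂ} (hθ : IsIrrCharacter G θ) {χ : N → ℂ}
    (hχ : IsIrrCharacter N χ) (h1 : classInner (fun n : N => θ n) χ ≠ 0)
    [DecidableEq (N → ℂ)] :
    (fun n : N => θ n)
      = classInner (fun n : N => θ n) χ • ∑ ψ ∈ univ.image (conjFun N χ), ψ := by
  have h := clifford_avg N hθ hχ h1
  have hsum : ∑ x : G, conjFun N χ x
      = (Nat.card (inertia N χ) : ℂ) • ∑ ψ ∈ univ.image (conjFun N χ), ψ := by
    rw [Finset.smul_sum, ← Finset.sum_fiberwise_of_maps_to
      (g := conjFun N χ) (t := univ.image (conjFun N χ)) (fun x _ => mem_image_of_mem _ (mem_univ x))]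
    refine Finset.sum_congr rfl fun ψ hψ => ?_
    obtain ⟨x₀, -, rfl⟩ := mem_image.1 hψ
    have hcard : #(univ.filter fun x : G => conjFun N χ x = conjFun N χ x₀)
        = Nat.card (inertia N χ) := by
      classical
      rw [Nat.card_eq_fintype_card, Fintype.card_subtype]
      refine Finset.card_equiv (Equiv.mulRight x₀⁻¹) fun x => ?_
      simp [conjFun_eq_iff]
    rw [Finset.sum_congr rfl (fun x hx => (mem_filter.1 hx).2), sum_const, hcard,
      Nat.cast_smul_eq_nsmul]
  rw [hsum, smul_comm] at h
  exact smul_right_injective _ (card_ne_zero_complex (inertia N χ)) h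

/-- Degrees in Clifford's theorem. -/
theorem clifford_degree [Fintype N] {θ : G → ℂ} (hθ : IsIrrCharacter G θ) {χ : N → ℂ}
    (hχ : IsIrrCharacter N χ) (h1 : classInner (fun n : N => θ n) χ ≠ 0) :
    θ 1 = classInner (fun n : N => θ n) χ * ((inertia N χ).index : ℂ) * χ 1 := by
  have h := congrFun (clifford_avg N hθ hχ h1) 1
  have h2 : ∀ x : G, conjFun N χ x 1 = χ 1 := fun x => congrArg χ (Subtype.ext (by simp))
  simp only [Pi.smul_apply, Finset.sum_apply, h2, sum_const, card_univ, nsmul_eq_mul, smul_eq_mul,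
    OneMemClass.coe_one, ← Nat.card_eq_fintype_card] at h
  rw [← (inertia N χ).card_mul_index, Nat.cast_mul] at h
  have := card_ne_zero_complex (inertia N χ)
  refine mul_left_cancel₀ this ?_
  rw [h]; ring

omit [Fintype G] in
theorem classInner_comp_mulEquiv {A B : Type*} [Group A] [Group B] [Fintype A] [Fintype B]
    (e : A ≃* B) (φ ψ : B → ℂ) :
    classInner (fun a => φ (e a)) (fun a => ψ (e a)) = classInner φ ψ := by
  rw [classInner, classInner, Nat.card_congr e.toEquiv]
  congr 1
  exact Fintype.sum_equiv e.toEquiv _ _ fun a => rfl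

/-- Clifford correspondence: an irreducible character above `χ` is induced from an irreducible
character of the inertia group lying above `χ` only. -/
theorem exists_clifford_correspondent [Fintype N] {θ : G → ℂ} (hθ : IsIrrCharacter G θ)
    {χ : N → ℂ} (hχ : IsIrrCharacter N χ) (h1 : classInner (fun n : N => θ n) χ ≠ 0) :
    ∃ φ : inertia N χ → ℂ, IsIrrCharacter (inertia N χ) φ ∧ indFun (inertia N χ) φ = θ ∧
      ∃ f : ℕ, 0 < f ∧ ∀ n : N,
        φ ⟨n, le_inertia N (CharBasic.IsIrr.isClassFunction hχ) n.2⟩ = (f : ℂ) * χ n := by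
  classical
  set T := inertia N χ with hT
  have hle : N ≤ T := le_inertia N (CharBasic.IsIrr.isClassFunction hχ)
  haveI : Fintype T := Fintype.ofFinite T
  haveI : Fintype (N.subgroupOf T) := Fintype.ofFinite _
  let e := Subgroup.subgroupOfEquivOfLe hle
  let χ' : N.subgroupOf T → ℂ := fun n => χ (e n)
  have hχ' : IsIrrCharacter (N.subgroupOf T) χ' := IsIrr.comp hχ e.toMonoidHom e.surjective
  have hθc := CharBasic.IsIrr.isCharacter hθ
  let θT : T → ℂ := fun t => θ t
  have hθT : IsCharacter T θT := IsChar.res hθc T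
  have hres : classInner (fun n : N.subgroupOf T => θT n) χ' = classInner (fun n : N => θ n) χ := by
    rw [← classInner_comp_mulEquiv e]
    rfl
  obtain ⟨φ, hφ1, hφ2⟩ : ∃ φ : IrrCharacter T, classInner θT (φ : T → ℂ) ≠ 0 ∧
      classInner (fun n : N.subgroupOf T => (φ : T → ℂ) n) χ' ≠ 0 := by
    by_contra hc
    push Not at hc
    apply h1
    rw [← hres]
    have hexp : (fun n : N.subgroupOf T => θT n)
        = ∑ φ : IrrCharacter T, classInner θT (φ : T → ℂ) •
            fun n : N.subgroupOf T => (φ : T → ℂ) n := by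
      funext n
      conv_lhs => rw [classFunction_expansion (CharBasic.IsChar.isClassFunction hθT)]
      simp [Finset.sum_apply]
    rw [hexp, classInner_sum_left]
    refine Finset.sum_eq_zero fun φ _ => ?_
    rw [classInner_smul_left]
    by_cases h : classInner θT (φ : T → ℂ) = 0
    · rw [h, zero_mul]
    · rw [hc φ h, mul_zero]
  obtain ⟨f, hf⟩ := classInner_isChar_nat
    (IsChar.res (CharBasic.IsIrr.isCharacter φ.2) (N.subgroupOf T))
    (CharBasic.IsIrr.isCharacter hχ')
  -- the inertia group fixes `χ'`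
  have htop : inertia (N.subgroupOf T) χ' = ⊤ := by
    rw [Subgroup.eq_top_iff']
    intro t
    funext n
    exact congrFun (mem_inertia N |>.1 t.2) (e n)
  have hφN : ∀ n : N.subgroupOf T, (φ : T → ℂ) n = (f : ℂ) * χ' n := by
    intro n
    have hca := congrFun (clifford_avg (N.subgroupOf T) φ.2 hχ' hφ2) n
    have hall : ∀ t : T, conjFun (N.subgroupOf T) χ' t = χ' := fun t =>
      (mem_inertia (N.subgroupOf T)).1 (htop ▸ Subgroup.mem_top t)
    simp only [Pi.smul_apply, Finset.sum_apply, hall, Finset.sum_const, card_univ, smul_eq_mul,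
      nsmul_eq_mul, htop, Subgroup.card_top, Nat.card_eq_fintype_card (α := T), hf] at hca
    have h0 : (Fintype.card T : ℂ) ≠ 0 := Nat.cast_ne_zero.2 Fintype.card_ne_zero
    refine mul_left_cancel₀ h0 ?_
    rw [hca]; simp only [Pi.mul_apply, Pi.natCast_apply]; ring
  have hfpos : 0 < f := by
    rcases Nat.eq_zero_or_pos f with rfl | h
    · exact absurd hf (by simpa using hφ2)
    · exact h
  refine ⟨φ, φ.2, ?_, f, hfpos, fun n => ?_⟩
  · obtain ⟨r, hr, her⟩ := IsChar.exists_eq_add hθT φ.2 hφ1
    obtain ⟨b, hb⟩ := classInner_isChar_nat (IsChar.res hr (N.subgroupOf T))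
      (CharBasic.IsIrr.isCharacter hχ')
    obtain ⟨a, ha⟩ := classInner_isChar_nat (IsChar.res hθc N) (CharBasic.IsIrr.isCharacter hχ)
    have hab : a = f + b := by
      have h := hres
      rw [ha, show (fun n : N.subgroupOf T => θT n)
        = (fun n : N.subgroupOf T => (φ : T → ℂ) n) + (fun n : N.subgroupOf T => r n)
        from funext fun n => congrFun her (n : T), classInner_add_left, hf, hb] at h
      exact_mod_cast h.symm
    have hne : classInner (indFun T (φ : T → ℂ)) θ ≠ 0 := by
      rw [classInner_indFun_left T _ θ (CharBasic.IsIrr.isClassFunction hθ)]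
      intro h
      apply hφ1
      rw [← conj_classInner, h, map_zero]
    obtain ⟨r', hr', her'⟩ :=
      IsChar.exists_eq_add (IsChar.ind T (CharBasic.IsIrr.isCharacter φ.2)) hθ hne
    obtain ⟨c, hc, hc'⟩ := CharBasic.IsIrr.exists_degree hχ
    obtain ⟨d, hd⟩ := CharBasic.IsChar.exists_degree hr'
    have h2 := clifford_degree N hθ hχ h1
    rw [ha, hc', ← hT] at h2
    have h3 := congrFun her' 1
    have hφ1' : (φ : T → ℂ) 1 = (f : ℂ) * c := by
      have h := hφN 1
      rw [show χ' 1 = χ 1 from congrArg χ (map_one e), hc'] at h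
      exact h
    rw [indFun_one, hφ1', Pi.add_apply, h2, hd] at h3
    have h4 : T.index * (f * c) = a * T.index * c + d := by exact_mod_cast h3
    have hd0 : d = 0 := by
      have : T.index * (f * c) ≤ a * T.index * c := by
        rw [hab]; nlinarith [Nat.zero_le (b * T.index * c)]
      omega
    rw [her', IsChar.eq_zero_of_one_eq_zero hr' (by rw [hd, hd0]; simp), add_zero]
  · exact hφN ⟨⟨n, hle n.2⟩, n.2⟩

end Conjugates

end Cfsg.Agent.CharInduce
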