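import Cfsg.Agent.CharInduce.Induce

/-!
# Gallagher's theorem and averaging over the cosets of a normal subgroup
-/

namespace Cfsg.Agent.CharInduce

open scoped ComplexConjugate
open Cfsg.Agent.CharBasic Finset

universe u v

/-- Inner products are unchanged by inflation along a surjection. -/
theorem classInner_comp_surjective {G : Type u} [Group G] [Fintype G] {H : Type v} [Group H]
    [Fintype H] (f : G →* H) (hf : Function.Surjective f) (a b : H → ℂ) :
    classInner (fun g => a (f g)) (fun g => b (f g)) = classInner a b := by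
  classical
  have hfib : ∀ h : H, #(univ.filter fun g : G => f g = h) = Nat.card f.ker := by
    intro h
    obtain ⟨g₀, rfl⟩ := hf h
    rw [Nat.card_eq_fintype_card, Fintype.card_subtype]
    refine Finset.card_equiv (Equiv.mulRight g₀⁻¹) fun g => ?_
    simp [MonoidHom.mem_ker, mul_inv_eq_one]
  have hsum : ∀ F : H → ℂ, ∑ g : G, F (f g) = (Nat.card f.ker : ℂ) * ∑ h : H, F h := by
    intro F
    rw [← sum_fiberwise univ f, mul_sum]
    refine sum_congr rfl fun h _ => ?_
    rw [sum_congr rfl (g := fun _ => F h) (fun g hg => by rw [(mem_filter.1 hg).2]), sum_const,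
      hfib, nsmul_eq_mul]
  have hcard : (Nat.card G : ℂ) = (Nat.card f.ker : ℂ) * (Nat.card H : ℂ) := by
    have := hsum fun _ => 1
    simpa [Nat.card_eq_fintype_card (α := G), Nat.card_eq_fintype_card (α := H)] using this
  simp only [classInner_def]
  rw [hsum (fun h => a h * conj (b h)), hcard]
  have := card_ne_zero_complex f.ker
  have := card_ne_zero_complex H
  field_simp

section

variable {G : Type u} [Group G] [Fintype G] (N : Subgroup G) [hN : N.Normal]

/-- Above an invariant character there are only multiples of it. -/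
theorem res_eq_smul_of_invariant [Fintype N] {θ : G → ℂ} (hθ : IsIrrCharacter G θ) {χ : N → ℂ}
    (hχ : IsIrrCharacter N χ) (hinv : ∀ x : G, conjFun N χ x = χ)
    (h1 : classInner (fun n : N => θ n) χ ≠ 0) :
    (fun n : N => θ n) = classInner (fun n : N => θ n) χ • χ := by
  have h := clifford_avg N hθ hχ h1
  have htop : inertia N χ = ⊤ := (Subgroup.eq_top_iff' _).2 fun x => hinv x
  rw [htop, Subgroup.card_top] at h
  simp only [hinv, sum_const, card_univ, ← Nat.card_eq_fintype_card] at h
  rw [← Nat.cast_smul_eq_nsmul ℂ, smul_comm] at h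
  exact smul_right_injective _ (card_ne_zero_complex G) h

/-- The induced function of an invariant irreducible character has norm the index. -/
theorem classInner_indFun_self_of_invariant {χ : N → ℂ} (hχ : IsIrrCharacter N χ)
    (hinv : ∀ x : G, conjFun N χ x = χ) :
    classInner (indFun N χ) (indFun N χ) = (N.index : ℂ) := by
  classical
  haveI := Fintype.ofFinite N
  rw [classInner_indFun_left N χ _ (isClassFunction_indFun N χ), indFun_res_normal,
    CharBasic.classInner_smul_right, CharBasic.classInner_sum_right]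
  simp only [hinv, classInner_irr_self hχ, sum_const, card_univ, nsmul_eq_mul, mul_one, map_inv₀,
    map_natCast, ← Nat.card_eq_fintype_card]
  rw [← N.card_mul_index, Nat.cast_mul, ← mul_assoc, inv_mul_cancel₀ (card_ne_zero_complex N),
    one_mul]

theorem conjFun_one_char (x : G) : conjFun N (fun _ : N => (1 : ℂ)) x = fun _ => 1 := rfl

/-- `β` lies over the trivial character of `N` exactly when `N` is in its kernel. -/
theorem constituent_one_iff [Fintype N] {β : G → ℂ} (hβ : IsIrrCharacter G β) :
    classInner (fun n : N => β n) (fun _ => 1) ≠ 0 ↔ ∀ n ∈ N, β n = β 1 := by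
  constructor
  · intro h n hn
    have hr := res_eq_smul_of_invariant N hβ isIrrCharacter_one (conjFun_one_char N) h
    have h1 := congrFun hr ⟨n, hn⟩
    have h2 := congrFun hr 1
    simp only [Pi.smul_apply, OneMemClass.coe_one] at h1 h2
    rw [h1, h2]
  · intro h
    rw [show (fun n : N => β n) = β 1 • (fun _ : N => (1 : ℂ)) from funext fun n => by
      simp [h n n.2], classInner_smul_left, classInner_irr_self isIrrCharacter_one, mul_one]
    exact CharBasic.IsIrr.one_ne_zero hβ

/-- Positive weights with a non-negative Gram matrix of diagonal at least one and the norm of an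
orthonormal family force orthonormality. -/
theorem gram_eq_delta {ι : Type*} [DecidableEq ι] (s : Finset ι) (f : ι → ℕ) (m : ι → ι → ℕ)
    (hf : ∀ i ∈ s, 0 < f i) (hd : ∀ i ∈ s, 0 < m i i)
    (h : ∑ i ∈ s, ∑ j ∈ s, f i * f j * m i j = ∑ i ∈ s, f i * f i) :
    ∀ i ∈ s, ∀ j ∈ s, m i j = if i = j then 1 else 0 := by
  have hle : ∀ i ∈ s, ∀ j ∈ s, (if i = j then f i * f j else 0) ≤ f i * f j * m i j := by
    intro i hi j _
    split_ifs with e
    · subst e
      exact Nat.le_mul_of_pos_right _ (hd i hi)
    · exact Nat.zero_le _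
  have hrow : ∀ i ∈ s, ∑ j ∈ s, (if i = j then f i * f j else 0) = f i * f i := by
    intro i hi
    rw [sum_ite_eq, if_pos hi]
  have h2 : ∑ i ∈ s, ∑ j ∈ s, (if i = j then f i * f j else 0)
      = ∑ i ∈ s, ∑ j ∈ s, f i * f j * m i j := by
    rw [h]; exact sum_congr rfl hrow
  have h3 := (sum_eq_sum_iff_of_le fun i hi => sum_le_sum (hle i hi)).1 h2
  intro i hi j hj
  have h4 := (sum_eq_sum_iff_of_le (hle i hi)).1 (h3 i hi) j hj
  have hij : 0 < f i * f j := Nat.mul_pos (hf i hi) (hf j hj)
  split_ifs with e
  · rw [if_pos e] at h4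
    exact (Nat.mul_eq_left hij.ne').1 h4.symm
  · rw [if_neg e] at h4
    exact (Nat.mul_eq_zero.1 h4.symm).resolve_left hij.ne'

/-- The set of irreducible characters above a character of a normal subgroup. -/
noncomputable def above (φ : N → ℂ) : Finset (IrrCharacter G) :=
  haveI := Classical.decEq ℂ
  univ.filter fun β => classInner (indFun N φ) (β : G → ℂ) ≠ 0

omit hN in
theorem mem_above {φ : N → ℂ} {β : IrrCharacter G} :
    β ∈ above N φ ↔ classInner (indFun N φ) (β : G → ℂ) ≠ 0 := by
  simp [above]

/-- Gallagher's theorem in Isaacs' general form: multiplication by an extension `χ` of the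
invariant `ϑ` is a bijection from the characters above `φ` to those above `φ * ϑ`. -/
theorem gallagher {φ ϑ : N → ℂ} (hφ : IsIrrCharacter N φ) (hϑ : IsIrrCharacter N ϑ)
    (hφinv : ∀ x : G, conjFun N φ x = φ) (hϑinv : ∀ x : G, conjFun N ϑ x = ϑ)
    (hprod : IsIrrCharacter N (φ * ϑ)) {χ : G → ℂ} (hχ : IsIrrCharacter G χ)
    (hext : ∀ n : N, χ n = ϑ n) :
    (∀ β ∈ above N φ, IsIrrCharacter G ((β : G → ℂ) * χ) ∧
        classInner (indFun N (φ * ϑ)) ((β : G → ℂ) * χ) ≠ 0) ∧
      (∀ β ∈ above N φ, ∀ β' ∈ above N φ, (β : G → ℂ) * χ = (β' : G → ℂ) * χ → β = β') ∧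
      (∀ ψ : G → ℂ, IsIrrCharacter G ψ → classInner (indFun N (φ * ϑ)) ψ ≠ 0 →
        ∃ β ∈ above N φ, (β : G → ℂ) * χ = ψ) := by
  classical
  haveI := Fintype.ofFinite N
  choose f hf using fun β : IrrCharacter G => classInner_indFun_nat N
    (CharBasic.IsIrr.isCharacter hφ) (CharBasic.IsIrr.isCharacter β.2)
  have hfpos : ∀ β ∈ above N φ, 0 < f β := by
    intro β hβ
    rw [mem_above, hf, Nat.cast_ne_zero] at hβ
    exact Nat.pos_of_ne_zero hβ
  have hexp : indFun N φ = ∑ β ∈ above N φ, (f β : ℂ) • (β : G → ℂ) := by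
    conv_lhs => rw [classFunction_expansion (isClassFunction_indFun N φ)]
    rw [← sum_filter_of_ne (p := fun β => β ∈ above N φ) (fun β _ h => ?_)]
    · simp [hf]
    · rw [mem_above]
      intro h0
      exact h (by rw [h0, zero_smul])
  have hprojection : indFun N (φ * ϑ) = ∑ β ∈ above N φ, (f β : ℂ) • ((β : G → ℂ) * χ) := by
    rw [show φ * ϑ = fun n : N => φ n * χ n from funext fun n => by simp [hext],
      indFun_mul_res N φ χ (CharBasic.IsIrr.isClassFunction hχ), hexp, sum_mul]
    exact sum_congr rfl fun β _ => smul_mul_assoc _ _ _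
  have hprodinv : ∀ x : G, conjFun N (φ * ϑ) x = φ * ϑ := by
    intro x
    rw [show conjFun N (φ * ϑ) x = conjFun N φ x * conjFun N ϑ x from rfl, hφinv, hϑinv]
  have hc : ∀ β : IrrCharacter G, IsCharacter G ((β : G → ℂ) * χ) := fun β =>
    IsChar.mul (CharBasic.IsIrr.isCharacter β.2) (CharBasic.IsIrr.isCharacter hχ)
  choose m hm using fun β β' : IrrCharacter G => classInner_isChar_nat (hc β) (hc β')
  have hd : ∀ β, 0 < m β β := by
    intro β
    refine Nat.pos_of_ne_zero fun h => ?_
    have h0 := hm β β
    rw [h, Nat.cast_zero, classInner_self_eq_zero] at h0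
    exact mul_ne_zero (CharBasic.IsIrr.one_ne_zero β.2) (CharBasic.IsIrr.one_ne_zero hχ)
      (congrFun h0 1)
  have hgram : ∀ i ∈ above N φ, ∀ j ∈ above N φ, m i j = if i = j then 1 else 0 := by
    refine gram_eq_delta _ f m hfpos (fun i _ => hd i) ?_
    have hn1 := classInner_indFun_self_of_invariant N hφ hφinv
    have hn2 := classInner_indFun_self_of_invariant N hprod hprodinv
    rw [← hn1, hprojection, hexp] at hn2
    simp only [classInner_sum_left, classInner_sum_right, classInner_smul_left,
      classInner_smul_right, map_natCast, hm, classInner_irrCharacter, mul_ite, mul_one, mul_zero,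
      sum_ite_eq', sum_ite_eq] at hn2
    have : (((∑ i ∈ above N φ, ∑ j ∈ above N φ, f i * f j * m i j : ℕ)) : ℂ)
        = ((∑ i ∈ above N φ, f i * f i : ℕ) : ℂ) := by
      push_cast
      refine Eq.trans ?_ (hn2.trans ?_)
      · rw [sum_comm]
        exact sum_congr rfl fun i _ => by
          rw [mul_sum]
          exact sum_congr rfl fun j _ => by ring
      · exact sum_congr rfl fun i hi => by simp [hi]
    exact_mod_cast this
  have hirr : ∀ β ∈ above N φ, IsIrrCharacter G ((β : G → ℂ) * χ) := fun β hβ =>
    isIrr_of_norm_one (hc β) (by rw [hm, hgram β hβ β hβ, if_pos rfl, Nat.cast_one])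
  have horth : ∀ β ∈ above N φ, ∀ β' ∈ above N φ, β ≠ β' →
      classInner ((β : G → ℂ) * χ) ((β' : G → ℂ) * χ) = 0 := fun β hβ β' hβ' e => by
    rw [hm, hgram β hβ β' hβ', if_neg e, Nat.cast_zero]
  have hcoeff : ∀ β ∈ above N φ,
      classInner (indFun N (φ * ϑ)) ((β : G → ℂ) * χ) = (f β : ℂ) := by
    intro β hβ
    rw [hprojection, classInner_sum_left, sum_eq_single β]
    · rw [classInner_smul_left, classInner_irr_self (hirr β hβ), mul_one]
    · intro b hb hne
      rw [classInner_smul_left, horth b hb β hβ hne, mul_zero]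
    · exact fun h => absurd hβ h
  refine ⟨fun β hβ => ⟨hirr β hβ, ?_⟩, fun β hβ β' hβ' e => ?_, fun ψ hψ hne => ?_⟩
  · rw [hcoeff β hβ, Nat.cast_ne_zero]
    exact (hfpos β hβ).ne'
  · by_contra hne
    have h0 := horth β hβ β' hβ' hne
    rw [← e, classInner_irr_self (hirr β hβ)] at h0
    exact one_ne_zero h0
  · by_contra hno
    push Not at hno
    apply hne
    rw [hprojection, classInner_sum_left]
    exact sum_eq_zero fun β hβ => by
      rw [classInner_smul_left, classInner_irr_of_ne (hirr β hβ) hψ (hno β hβ), mul_zero]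

/-- A class function constant on the cosets of `N` expands in the inflated characters. -/
theorem expansion_of_coset_invariant [Fintype (G ⧸ N)] {η : G → ℂ} (hη : IsClassFunction G η)
    (hinv : ∀ n ∈ N, ∀ g, η (n * g) = η g) :
    η = ∑ b : IrrCharacter (G ⧸ N),
      classInner η (fun g : G => (b : G ⧸ N → ℂ) g) • fun g : G => (b : G ⧸ N → ℂ) g := by
  have hwell : ∀ g : G, η ((g : G ⧸ N).out) = η g := by
    intro g
    obtain ⟨n, hn⟩ := QuotientGroup.mk_out_eq_mul N g
    rw [hn, show g * (n : G) = (g * n * g⁻¹) * g by group]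
    exact hinv _ (hN.conj_mem _ n.2 g) g
  have hcl : IsClassFunction (G ⧸ N) (fun q : G ⧸ N => η q.out) := by
    intro a b
    induction a using QuotientGroup.induction_on with
    | H x =>
      induction b using QuotientGroup.induction_on with
      | H y =>
        show η (((y * x * y⁻¹ : G) : G ⧸ N)).out = η ((x : G ⧸ N)).out
        rw [hwell, hwell]
        exact hη x y
  funext g
  have h := congrFun (classFunction_expansion hcl) (g : G ⧸ N)
  rw [hwell] at h
  rw [h]
  simp only [Finset.sum_apply, Pi.smul_apply]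
  refine sum_congr rfl fun b _ => ?_
  rw [← classInner_comp_surjective (QuotientGroup.mk' N) (QuotientGroup.mk'_surjective N)]
  simp [hwell]

end

end Cfsg.Agent.CharInduce
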