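import Cfsg.Agent.CharInduce.Span

/-!
# Artin's induction theorem
-/

namespace Cfsg.Agent.CharInduce

open scoped ComplexConjugate
open Cfsg.Agent.CharBasic Finset

universe u

/-- Artin's function on a subgroup: its order at the generators, zero elsewhere. -/
noncomputable def artinFun {G : Type u} [Group G] (C : Subgroup G) : C → ℂ :=
  haveI := Classical.dec
  fun c => if Subgroup.zpowers ((c : C) : G) = C then (Nat.card C : ℂ) else 0

theorem sum_indFun_artinFun (G : Type u) [Group G] [Fintype G] [Fintype (Subgroup G)] :
    ∑ C : Subgroup G, indFun C (artinFun C) = fun _ => (Nat.card G : ℂ) := by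
  classical
  funext g
  have hC : ∀ C : Subgroup G, indFun C (artinFun C) g
      = ∑ x : G, if Subgroup.zpowers (x⁻¹ * g * x) = C then 1 else 0 := by
    intro C
    rw [indFun_apply, mul_sum]
    refine sum_congr rfl fun x _ => ?_
    by_cases hx : x⁻¹ * g * x ∈ C
    · rw [extendByZero_of_mem _ hx, artinFun]
      simp only
      split_ifs with h
      · exact inv_mul_cancel₀ (card_ne_zero_complex C)
      · exact mul_zero _
    · rw [extendByZero_of_not_mem _ hx, mul_zero, if_neg]
      exact fun h => hx (h ▸ Subgroup.mem_zpowers _)
  rw [Finset.sum_apply, sum_congr rfl (fun C _ => hC C), sum_comm]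
  simp [Nat.card_eq_fintype_card]

theorem isClassFunction_artinFun_top {G : Type u} [Group G] :
    IsClassFunction (⊤ : Subgroup G) (artinFun (⊤ : Subgroup G)) := by
  classical
  intro a b
  simp only [artinFun]
  have h : ∀ x y : G, Subgroup.zpowers x = ⊤ → Subgroup.zpowers (y * x * y⁻¹) = ⊤ := by
    intro x y h
    have hy : y ∈ Subgroup.zpowers x := h ▸ Subgroup.mem_top y
    obtain ⟨i, hi⟩ := Subgroup.mem_zpowers_iff.1 hy
    have : y * x * y⁻¹ = x := by
      rw [← hi, ((Commute.refl x).zpow_left i).eq, mul_inv_cancel_right]
    rw [this, h]
  congr 1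
  apply propext
  constructor
  · intro h'
    have := h _ (b : G)⁻¹ h'
    simpa [mul_assoc] using this
  · exact h _ _

theorem mem_gen_artinFun : ∀ (G : Type u) [Group G] [Fintype G],
    IsGeneralizedCharacter (⊤ : Subgroup G) (artinFun (⊤ : Subgroup G)) := by
  suffices h : ∀ (n : ℕ) (G : Type u) [Group G] [Fintype G], Nat.card G = n →
      IsGeneralizedCharacter (⊤ : Subgroup G) (artinFun (⊤ : Subgroup G)) from
    fun G _ _ => h _ G rfl
  intro n
  induction n using Nat.strong_induction_on with
  | _ n ih =>
    intro G _ _ hn
    classical
    haveI : Fintype (Subgroup G) := Fintype.ofFinite _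
    -- lift the statement about proper subgroups
    have hsub : ∀ C : Subgroup G, C ≠ ⊤ → IsGeneralizedCharacter C (artinFun C) := by
      intro C hC
      have hlt : Nat.card C < n := hn ▸ lt_of_le_of_ne (Subgroup.card_le_card_group _)
        fun h => hC (Subgroup.eq_top_of_card_eq _ h)
      have h := ih _ hlt C rfl
      have he : artinFun C =
          fun c : C => artinFun (⊤ : Subgroup C) (Subgroup.topEquiv.symm c) := by
        funext c
        simp only [artinFun, Subgroup.card_top]
        congr 1
        apply propext
        have hmap : (Subgroup.zpowers c).map C.subtype = Subgroup.zpowers (c : G) :=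
          MonoidHom.map_zpowers C.subtype c
        constructor
        · intro hc
          apply Subgroup.map_injective C.subtype_injective
          show (Subgroup.zpowers c).map C.subtype = _
          rw [hmap, hc, ← MonoidHom.range_eq_map, Subgroup.range_subtype]
        · intro hc
          have := congrArg (Subgroup.map C.subtype) hc
          rw [show (((Subgroup.topEquiv.symm c : (⊤ : Subgroup C))) : C) = c from rfl, hmap,
            ← MonoidHom.range_eq_map, Subgroup.range_subtype] at this
          exact this
      rw [he]
      exact IsGen.comp h Subgroup.topEquiv.symm.toMonoidHom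
    have hsum := sum_indFun_artinFun G
    rw [← Finset.add_sum_erase univ _ (mem_univ (⊤ : Subgroup G))] at hsum
    have htop : IsGeneralizedCharacter G (indFun (⊤ : Subgroup G) (artinFun ⊤)) := by
      rw [eq_sub_of_add_eq hsum]
      refine IsGen.sub ?_ (IsGen.sum _ _ fun C hC =>
        IsGen.ind C (hsub C (Finset.ne_of_mem_erase hC)))
      rw [show (fun _ : G => (Nat.card G : ℂ)) = Nat.card G • (fun _ : G => (1 : ℂ)) from
        funext fun g => by simp]
      exact IsGen.nsmul (IsGen.of_char IsChar.one) _
    have hcl : IsClassFunction G (fun g : G => artinFun ⊤ ⟨g, Subgroup.mem_top g⟩) := fun g h =>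
      isClassFunction_artinFun_top (⟨g, Subgroup.mem_top g⟩) ⟨h, Subgroup.mem_top h⟩
    rw [show artinFun (⊤ : Subgroup G) =
      (fun x : (⊤ : Subgroup G) => (fun g : G => artinFun ⊤ ⟨g, Subgroup.mem_top g⟩) x)
      from rfl] at htop ⊢
    rw [indFun_top _ hcl] at htop
    exact IsGen.comp htop (⊤ : Subgroup G).subtype

/-- Artin's induction theorem. -/
theorem artin {G : Type u} [Group G] [Fintype G] {χ : G → ℂ} (hχ : IsCharacter G χ) :
    (Nat.card G : ℂ) • χ ∈ linSpan (fun A : Subgroup G => IsCyclic A) := by
  classical
  haveI : Fintype (Subgroup G) := Fintype.ofFinite _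
  have h1 : (fun _ : G => (Nat.card G : ℂ)) ∈ indSpan (fun A : Subgroup G => IsCyclic A) := by
    rw [← sum_indFun_artinFun G]
    refine AddSubgroup.sum_mem _ fun C _ => ?_
    by_cases hC : IsCyclic C
    · haveI : Fintype C := Fintype.ofFinite C
      have hg : IsGeneralizedCharacter C (artinFun C) := by
        have h := mem_gen_artinFun C
        have he : artinFun C =
            fun c : C => artinFun (⊤ : Subgroup C) (Subgroup.topEquiv.symm c) := by
          funext c
          simp only [artinFun, Subgroup.card_top]
          congr 1
          apply propext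
          have hmap : (Subgroup.zpowers c).map C.subtype = Subgroup.zpowers (c : G) :=
            MonoidHom.map_zpowers C.subtype c
          constructor
          · intro hc
            apply Subgroup.map_injective C.subtype_injective
            show (Subgroup.zpowers c).map C.subtype = _
            rw [hmap, hc, ← MonoidHom.range_eq_map, Subgroup.range_subtype]
          · intro hc
            have := congrArg (Subgroup.map C.subtype) hc
            rw [show (((Subgroup.topEquiv.symm c : (⊤ : Subgroup C))) : C) = c from rfl, hmap,
              ← MonoidHom.range_eq_map, Subgroup.range_subtype] at this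
            exact this
        rw [he]
        exact IsGen.comp h Subgroup.topEquiv.symm.toMonoidHom
      obtain ⟨a, b, ha, hb, he⟩ := hg
      rw [he, indFun_sub]
      exact AddSubgroup.sub_mem _ (indFun_mem_indSpan hC ha) (indFun_mem_indSpan hC hb)
    · have h0 : artinFun C = 0 := by
        funext c
        simp only [artinFun, Pi.zero_apply, ite_eq_right_iff]
        intro h
        exact absurd (h ▸ inferInstanceAs (IsCyclic (Subgroup.zpowers (c : G)))) hC
      rw [h0, indFun_zero]
      exact AddSubgroup.zero_mem _
  have h2 := mul_mem_indSpan h1 hχ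
  rw [show (fun _ : G => (Nat.card G : ℂ)) * χ = (Nat.card G : ℂ) • χ from rfl] at h2
  refine indSpan_le_linSpan ?_ ?_ h2
  · intro E hE H
    haveI := hE
    haveI : IsCyclic H := Subgroup.isCyclic H
    exact isCyclic_of_surjective (H.equivMapOfInjective E.subtype E.subtype_injective).toMonoidHom
      (H.equivMapOfInjective E.subtype E.subtype_injective).surjective
  · intro E hE
    haveI := hE
    exact @CommGroup.isNilpotent E IsCyclic.commGroup

end Cfsg.Agent.CharInduce
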