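import Cfsg.Agent.CharInduce.Span
import Cfsg.Agent.H35.PermChar
import Cfsg.Agent.S0873

/-!
# Brauer's induction theorem
-/

namespace Cfsg.Agent.CharInduce

open scoped ComplexConjugate
open Cfsg.Agent.CharBasic Finset

universe u

/-- The principal character of a quasi-elementary group is in the span from elementary
subgroups. -/
theorem one_mem_indSpan_quasiElementary (p : ℕ) [Fact p.Prime] :
    ∀ (H : Type u) [Group H] [Fintype H] (C : Subgroup H), C.Normal → IsCyclic C →
      Nat.Coprime (Nat.card C) p → (∃ k : ℕ, C.index = p ^ k) →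
      (fun _ : H => (1 : ℂ)) ∈ indSpan (fun E : Subgroup H => IsElementary p E) := by
  suffices h : ∀ (n : ℕ) (H : Type u) [Group H] [Fintype H] (C : Subgroup H), Nat.card H = n →
      C.Normal → IsCyclic C → Nat.Coprime (Nat.card C) p → (∃ k : ℕ, C.index = p ^ k) →
      (fun _ : H => (1 : ℂ)) ∈ indSpan (fun E : Subgroup H => IsElementary p E) from
    fun H _ _ C => h _ H C rfl
  intro n
  induction n using Nat.strong_induction_on with
  | _ n ih =>
    intro H _ _ C hn hCn hCcyc hcop hidx
    classical
    obtain ⟨k, hk⟩ := hidx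
    obtain ⟨P⟩ : Nonempty (Sylow p H) := inferInstance
    have hdisj : ∀ x : H, x ∈ C → x ∈ (P : Subgroup H) → x = 1 := by
      intro x hxC hxP
      obtain ⟨j, hj⟩ := P.isPGroup' ⟨x, hxP⟩
      have h1 : orderOf x ∣ Nat.card C :=
        (Subgroup.orderOf_coe (⟨x, hxC⟩ : C)).symm ▸ orderOf_dvd_natCard _
      have h2 : orderOf x ∣ p ^ j := orderOf_dvd_of_pow_eq_one (congrArg Subtype.val hj)
      exact orderOf_eq_one_iff.1 (Nat.eq_one_of_dvd_coprimes (hcop.pow_right j) h1 h2)
    have hsup : C ⊔ (P : Subgroup H) = ⊤ := by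
      rw [← Subgroup.index_eq_one]
      have h1 : (C ⊔ (P : Subgroup H)).index ∣ p ^ k := hk ▸ Subgroup.index_dvd_of_le le_sup_left
      obtain ⟨j, -, hj⟩ := (Nat.dvd_prime_pow Fact.out).1 h1
      rcases Nat.eq_zero_or_pos j with rfl | hjpos
      · simpa using hj
      · exfalso
        apply P.not_dvd_index
        exact ((dvd_pow_self p hjpos.ne').trans (dvd_of_eq hj.symm)).trans
          (Subgroup.index_dvd_of_le le_sup_right)
    set Z : Subgroup H := C ⊓ Subgroup.centralizer ((P : Subgroup H) : Set H) with hZdef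
    have hCcomm : ∀ a ∈ C, ∀ b ∈ C, a * b = b * a := by
      intro a ha b hb
      haveI := hCcyc
      exact congrArg Subtype.val ((IsCyclic.commGroup (α := C)).mul_comm ⟨a, ha⟩ ⟨b, hb⟩)
    have hZcen : Z ≤ Subgroup.center H := by
      intro z hz
      rw [Subgroup.mem_center_iff]
      intro g
      have hg : g ∈ C ⊔ (P : Subgroup H) := hsup ▸ Subgroup.mem_top g
      have hle : C ⊔ (P : Subgroup H) ≤ Subgroup.centralizer ({z} : Set H) := by
        refine sup_le ?_ ?_
        · intro c hc
          exact Subgroup.mem_centralizer_singleton_iff.2 (hCcomm c hc z hz.1)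
        · intro c hc
          exact Subgroup.mem_centralizer_singleton_iff.2 (Subgroup.mem_centralizer_iff.1 hz.2 c hc)
      exact Subgroup.mem_centralizer_singleton_iff.1 (hle hg)
    haveI : Z.Normal := ⟨fun a ha g => by
      rw [Subgroup.mem_center_iff.1 (hZcen ha) g, mul_inv_cancel_right]; exact ha⟩
    set E : Subgroup H := Z ⊔ (P : Subgroup H) with hEdef
    have hEC : ∀ x ∈ E, x ∈ C → x ∈ Z := by
      intro x hx hxC
      rw [hEdef, Subgroup.mem_sup_of_normal_left] at hx
      obtain ⟨z, hz, y, hy, rfl⟩ := hx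
      have : y ∈ C := (C.mul_mem_cancel_left hz.1).1 hxC
      rw [hdisj y this hy, mul_one]
      exact hz
    have hrel : ∃ j : ℕ, Z.relIndex E = p ^ j := by
      rw [hEdef, Subgroup.relIndex_sup_left]
      obtain ⟨m, hm⟩ := IsPGroup.iff_card.1 P.isPGroup'
      obtain ⟨j, -, hj⟩ := (Nat.dvd_prime_pow Fact.out).1
        (hm ▸ Subgroup.relIndex_dvd_card Z (P : Subgroup H))
      exact ⟨j, hj⟩
    have hEel : IsElementary p E := by
      haveI := hCcyc
      have hZcyc : IsCyclic Z :=
        isCyclic_of_injective (Subgroup.inclusion (inf_le_left : Z ≤ C))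
          (Subgroup.inclusion_injective _)
      obtain ⟨z, hz⟩ := hZcyc.exists_generator
      refine ⟨⟨(z : H), Subgroup.mem_sup_left z.2⟩, ?_, ?_, ?_⟩
      · rw [Subgroup.mem_center_iff]
        intro g
        exact Subtype.ext (Subgroup.mem_center_iff.1 (hZcen z.2) g)
      · refine hcop.coprime_dvd_left ?_
        rw [← Subgroup.orderOf_coe, ← Nat.card_zpowers]
        exact Subgroup.card_dvd_of_le ((Subgroup.zpowers_le).2 z.2.1)
      · have he : Subgroup.zpowers (⟨(z : H), Subgroup.mem_sup_left z.2⟩ : E)
            = Z.subgroupOf E := by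
          refine le_antisymm ((Subgroup.zpowers_le).2 (show (⟨(z : H), Subgroup.mem_sup_left z.2⟩ : E)
            ∈ Z.subgroupOf E from Subgroup.mem_subgroupOf.2 z.2)) ?_
          intro a ha
          obtain ⟨i, hi⟩ := Subgroup.mem_zpowers_iff.1 (hz ⟨(a : H), Subgroup.mem_subgroupOf.1 ha⟩)
          refine Subgroup.mem_zpowers_iff.2 ⟨i, Subtype.ext ?_⟩
          have := congrArg (fun w : Z => (w : H)) hi
          simpa using this
        rw [he]
        exact hrel
    haveI : Fintype C := Fintype.ofFinite C
    haveI : Fintype E := Fintype.ofFinite E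
    haveI : Fintype Z := Fintype.ofFinite Z
    -- the restriction to `C` of the character induced from the trivial one of `E`
    set θ : H → ℂ := indFun E (fun _ => 1) with hθdef
    have hθc : IsCharacter H θ := IsChar.ind E IsChar.one
    have hθval : ∀ c : C, θ c = if (c : H) ∈ Z then (E.index : ℂ) else 0 := by
      intro c
      have h : ∀ x : H, extendByZero E (fun _ => (1 : ℂ)) (x⁻¹ * c * x)
          = if (c : H) ∈ Z then 1 else 0 := by
        intro x
        split_ifs with hc
        · rw [extendByZero_of_mem]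
          rw [mul_assoc, ← Subgroup.mem_center_iff.1 (hZcen hc) x, ← mul_assoc, inv_mul_cancel,
            one_mul]
          exact Subgroup.mem_sup_left hc
        · rw [extendByZero_of_not_mem]
          intro hx
          apply hc
          have hxC : x⁻¹ * c * x ∈ C := by simpa using hCn.conj_mem _ c.2 x⁻¹
          have := (inferInstance : Z.Normal).conj_mem _ (hEC _ hx hxC) x
          simpa [mul_assoc] using this
      rw [hθdef, indFun_apply, sum_congr rfl (fun x _ => h x)]
      split_ifs
      · rw [sum_const, card_univ, nsmul_eq_mul, mul_one, ← Nat.card_eq_fintype_card,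
          ← E.card_mul_index, Nat.cast_mul, ← mul_assoc,
          inv_mul_cancel₀ (card_ne_zero_complex E), one_mul]
      · simp
    have hcards : E.index * Nat.card Z = Nat.card C := by
      have hEC' : C ⊔ E = ⊤ :=
        top_unique (hsup ▸ sup_le_sup_left (le_sup_right : (P : Subgroup H) ≤ E) C)
      have h1 : C.index = Z.relIndex E := by
        rw [← Subgroup.relIndex_top_right, ← hEC', Subgroup.relIndex_sup_left,
          ← Subgroup.inf_relIndex_right]
        congr 1
        exact le_antisymm (fun x hx => hEC x hx.2 hx.1) (le_inf inf_le_left le_sup_left)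
      have h2 : Nat.card Z * Z.relIndex E = Nat.card E := by
        rw [Subgroup.relIndex, ← Subgroup.card_mul_index (Z.subgroupOf E)]
        congr 1
        exact (Nat.card_congr (Subgroup.subgroupOfEquivOfLe le_sup_left).toEquiv).symm
      have h3 := E.card_mul_index
      rw [← C.card_mul_index, h1, ← h2] at h3
      have hpos : 0 < Z.relIndex E := Nat.pos_of_ne_zero Subgroup.FiniteIndex.index_ne_zero
      refine Nat.eq_of_mul_eq_mul_right hpos ?_
      rw [← h3]; ring
    have hinner : ∀ l : C →* ℂˣ, classInner (fun c : C => θ c) (fun c => (l c : ℂ))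
        = if (∀ c : C, (c : H) ∈ Z → l c = 1) then 1 else 0 := by
      intro l
      let l' : Z →* ℂˣ := l.comp (Subgroup.inclusion (inf_le_left : Z ≤ C))
      have hsum : classInner (fun c : C => θ c) (fun c => (l c : ℂ))
          = (Nat.card C : ℂ)⁻¹ * (E.index : ℂ) * ((Nat.card Z : ℂ) *
              classInner (fun _ : Z => (1 : ℂ)) (fun z => (l' z : ℂ))) := by
        simp only [classInner_def, hθval, ite_mul, zero_mul]
        rw [← sum_filter, ← mul_sum, mul_inv_cancel_left₀ (card_ne_zero_complex Z), mul_assoc]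
        congr 2
        simp only [one_mul]
        refine (sum_bij (fun (z : Z) _ => (⟨(z : H), z.2.1⟩ : C)) (fun z _ => ?_) ?_ ?_ ?_).symm
        · simp
        · intro a _ b _ h
          exact Subtype.ext (congrArg (fun w : C => (w : H)) h)
        · intro b hb
          exact ⟨⟨b, (mem_filter.1 hb).2⟩, mem_univ _, rfl⟩
        · intro a _
          rfl
      have hcc : (Nat.card C : ℂ) = (E.index : ℂ) * (Nat.card Z : ℂ) := by
        rw [← hcards, Nat.cast_mul]
      rw [hsum, hcc, classInner_irr isIrrCharacter_one (isIrrCharacter_hom l')]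
      have hiff : ((fun _ : Z => (1 : ℂ)) = fun z => (l' z : ℂ)) ↔
          ∀ c : C, (c : H) ∈ Z → l c = 1 := by
        constructor
        · intro h c hc
          exact Units.ext (congrFun h ⟨c, hc⟩).symm
        · intro h
          funext z
          rw [show (l' z : ℂˣ) = 1 from h ⟨z, z.2.1⟩ z.2, Units.val_one]
      have h0 : (E.index : ℂ) ≠ 0 := Nat.cast_ne_zero.2 Subgroup.FiniteIndex.index_ne_zero
      have := card_ne_zero_complex Z
      simp only [hiff]
      split_ifs <;> field_simp
    -- split off the principal character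
    have hθ1 : classInner θ (fun _ : H => (1 : ℂ)) = 1 := by
      rw [hθdef, classInner_indFun_left E _ _ (fun _ _ => rfl)]
      exact classInner_irr_self isIrrCharacter_one
    obtain ⟨r, hr, her⟩ :=
      IsChar.exists_eq_add hθc isIrrCharacter_one (by rw [hθ1]; exact one_ne_zero)
    have hr1 : classInner (fun c : C => r c) (fun _ => 1) = 0 := by
      have h := hinner 1
      have hall : ∀ c : C, (c : H) ∈ Z → (1 : C →* ℂˣ) c = 1 := fun c _ => MonoidHom.one_apply c
      rw [if_pos hall] at h
      simp only [MonoidHom.one_apply, Units.val_one] at h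
      rw [show (fun c : C => θ c) = (fun _ : C => (1 : ℂ)) + fun c : C => r c from
        funext fun c => congrFun her c, classInner_add_left,
        classInner_irr_self isIrrCharacter_one, add_eq_left] at h
      exact h
    have hrmem : r ∈ indSpan (fun E : Subgroup H => IsElementary p E) := by
      rw [classFunction_expansion (CharBasic.IsChar.isClassFunction hr)]
      refine AddSubgroup.sum_mem _ fun χ _ => ?_
      obtain ⟨m, hm⟩ := classInner_isChar_nat hr (CharBasic.IsIrr.isCharacter χ.2)
      rw [hm, Nat.cast_smul_eq_nsmul]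
      by_cases hm0 : m = 0
      · rw [hm0, zero_smul]; exact AddSubgroup.zero_mem _
      refine AddSubgroup.nsmul_mem _ ?_ _
      have hχc := CharBasic.IsIrr.isCharacter χ.2
      obtain ⟨lam, hlam⟩ := exists_constituent (IsChar.res hχc C)
        (fun e => CharBasic.IsIrr.one_ne_zero χ.2 (congrFun e 1))
      obtain ⟨l, hl⟩ := IsChar.exists_hom_of_degree_one (CharBasic.IsIrr.isCharacter lam.2)
        (IsIrr.degree_one_of_comm (fun a b => Subtype.ext (hCcomm a a.2 b b.2)) lam.2)
      obtain ⟨r', hr', her'⟩ :=
        IsChar.exists_eq_add hr χ.2 (by rw [hm]; exact Nat.cast_ne_zero.2 hm0)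
      obtain ⟨a, ha⟩ := classInner_isChar_nat (IsChar.res hχc C) (CharBasic.IsIrr.isCharacter lam.2)
      obtain ⟨b, hb⟩ := classInner_isChar_nat (IsChar.res hr' C) (CharBasic.IsIrr.isCharacter lam.2)
      have hrlam : classInner (fun c : C => r c) (lam : C → ℂ) ≠ 0 := by
        rw [show (fun c : C => r c) = (fun c : C => (χ : H → ℂ) c) + fun c : C => r' c from
          funext fun c => congrFun her' c, classInner_add_left, ha, hb, ← Nat.cast_add,
          Nat.cast_ne_zero]
        rw [ha, Nat.cast_ne_zero] at hlam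
        omega
      have hlamne : (lam : C → ℂ) ≠ fun _ => 1 := fun e => hrlam (by rw [e]; exact hr1)
      have hlZ : ∀ c : C, (c : H) ∈ Z → l c = 1 := by
        by_contra hneg
        have h := hinner l
        rw [if_neg hneg, show (fun c : C => θ c) = (fun _ : C => (1 : ℂ)) + fun c : C => r c from
          funext fun c => congrFun her c, ← funext hl, classInner_add_left,
          classInner_irr_of_ne isIrrCharacter_one lam.2 (Ne.symm hlamne), zero_add] at h
        exact hrlam h
      have hT : inertia C (lam : C → ℂ) ≠ ⊤ := by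
        intro htop
        apply hlamne
        refine Cfsg.Agent.S0873.result p C (P : Subgroup H) P.isPGroup' hcop hsup lam
          ⟨CharBasic.IsIrr.isCharacter lam.2, by rw [hl 1, map_one, Units.val_one]⟩
          (fun g c => congrFun ((mem_inertia C).1 (htop ▸ Subgroup.mem_top g)) c) ?_
        intro c hc
        rw [hl, hlZ c ⟨c.2, hc⟩, Units.val_one]
      set T := inertia C (lam : C → ℂ) with hTdef
      obtain ⟨φ, hφ, hind, -⟩ := exists_clifford_correspondent C χ.2 lam.2 hlam
      haveI : Fintype T := Fintype.ofFinite T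
      have hCT : C ≤ T := le_inertia C (CharBasic.IsIrr.isClassFunction lam.2)
      have hlt : Nat.card T < n := hn ▸ lt_of_le_of_ne (Subgroup.card_le_card_group _)
        fun h => hT (Subgroup.eq_top_of_card_eq _ h)
      have hone : (fun _ : T => (1 : ℂ)) ∈ indSpan (fun E : Subgroup T => IsElementary p E) := by
        refine ih _ hlt T (C.subgroupOf T) rfl inferInstance ?_ ?_ ?_
        · haveI := hCcyc
          exact isCyclic_of_surjective (Subgroup.subgroupOfEquivOfLe hCT).symm.toMonoidHom
            (Subgroup.subgroupOfEquivOfLe hCT).symm.surjective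
        · rw [Nat.card_congr (Subgroup.subgroupOfEquivOfLe hCT).toEquiv]
          exact hcop
        · have hd := Subgroup.relIndex_dvd_index_of_normal C T
          rw [hk] at hd
          obtain ⟨j, -, hj⟩ := (Nat.dvd_prime_pow Fact.out).1 hd
          exact ⟨j, hj⟩
      have h := mul_mem_indSpan hone (CharBasic.IsIrr.isCharacter hφ)
      rw [show (fun _ : T => (1 : ℂ)) * φ = φ from one_mul φ] at h
      rw [← hind]
      exact indFun_mem_of_mem T (fun E' hE' => isElementary_map hE') h
    have h1 : (fun _ : H => (1 : ℂ)) = θ - r := by rw [her]; simp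
    rw [h1]
    exact AddSubgroup.sub_mem _ (indFun_mem_indSpan hEel IsChar.one) hrmem

/-- Local form: some multiple prime to `p` of the principal character. -/
theorem brauer_local {G : Type u} [Group G] [Fintype G] (p : ℕ) [Fact p.Prime] :
    ∃ m : ℤ, ¬ (p : ℤ) ∣ m ∧
      (fun _ : G => (m : ℂ)) ∈ indSpan (fun E : Subgroup G => IsElementary p E) := by
  classical
  haveI : Fintype (Subgroup G) := Fintype.ofFinite _
  obtain ⟨m, a, hm, ha, heq⟩ := Cfsg.Agent.H35.solomon_local (G := G) p
  refine ⟨m, hm, ?_⟩
  have hfun : (fun _ : G => (m : ℂ)) = ∑ H : Subgroup G, a H • indFun H (fun _ => (1 : ℂ)) := by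
    funext g
    have hterm : ∀ H : Subgroup G, (a H • indFun H (fun _ => (1 : ℂ))) g
        = ((a H * (Cfsg.Agent.H35.permChar H g : ℤ) : ℤ) : ℂ) := fun H => by
      rw [Cfsg.Agent.H35.indFun_one_eq_permChar]
      simp
    rw [Finset.sum_apply, Finset.sum_congr rfl (fun H _ => hterm H), ← Int.cast_sum, ← heq g]
  rw [hfun]
  refine AddSubgroup.sum_mem _ fun H _ => ?_
  by_cases h0 : a H = 0
  · rw [h0, zero_smul]; exact AddSubgroup.zero_mem _
  refine AddSubgroup.zsmul_mem _ ?_ _
  obtain ⟨C, hCH, hHC, hcyc, hcop, k, hk⟩ := ha H h0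
  haveI : Fintype H := Fintype.ofFinite H
  refine indFun_mem_of_mem H (fun E hE => isElementary_map hE) ?_
  refine one_mem_indSpan_quasiElementary p H (C.subgroupOf H)
    ((Subgroup.normal_subgroupOf_iff_le_normalizer hCH).2 hHC) ?_ ?_ ⟨k, hk⟩
  · exact isCyclic_of_surjective (Subgroup.subgroupOfEquivOfLe hCH).symm.toMonoidHom
      (Subgroup.subgroupOfEquivOfLe hCH).symm.surjective
  · rw [Nat.card_congr (Subgroup.subgroupOfEquivOfLe hCH).toEquiv]
    exact hcop

/-- The elementary subgroups. -/
def IsElem {G : Type u} [Group G] (E : Subgroup G) : Prop :=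
  ∃ p : ℕ, p.Prime ∧ IsElementary p E

theorem one_mem_indSpan (G : Type u) [Group G] [Fintype G] :
    (fun _ : G => (1 : ℂ)) ∈ indSpan (fun E : Subgroup G => IsElem E) := by
  let J : AddSubgroup ℤ :=
    { carrier := {m | (fun _ : G => (m : ℂ)) ∈ indSpan (fun E : Subgroup G => IsElem E)}
      zero_mem' := by
        show (fun _ : G => ((0 : ℤ) : ℂ)) ∈ indSpan (fun E : Subgroup G => IsElem E)
        rw [show (fun _ : G => ((0 : ℤ) : ℂ)) = 0 from funext fun _ => Int.cast_zero]
        exact AddSubgroup.zero_mem _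
      add_mem' := fun {a b} ha hb => by
        show (fun _ : G => ((a + b : ℤ) : ℂ)) ∈ indSpan (fun E : Subgroup G => IsElem E)
        rw [show (fun _ : G => ((a + b : ℤ) : ℂ)) = (fun _ => (a : ℂ)) + fun _ => (b : ℂ) from
          funext fun _ => Int.cast_add a b]
        exact AddSubgroup.add_mem _ ha hb
      neg_mem' := fun {a} ha => by
        show (fun _ : G => ((-a : ℤ) : ℂ)) ∈ indSpan (fun E : Subgroup G => IsElem E)
        rw [show (fun _ : G => ((-a : ℤ) : ℂ)) = -(fun _ => (a : ℂ)) from
          funext fun _ => Int.cast_neg a]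
        exact AddSubgroup.neg_mem _ ha }
  obtain ⟨d, hd⟩ := Int.subgroup_cyclic J
  rw [← AddSubgroup.zmultiples_eq_closure] at hd
  have hd1 : d.natAbs = 1 := by
    by_contra hne
    obtain ⟨p, hp, hpd⟩ := Nat.exists_prime_and_dvd hne
    haveI : Fact p.Prime := ⟨hp⟩
    obtain ⟨m, hm, hmem⟩ := brauer_local (G := G) p
    have : m ∈ J := by
      refine AddSubgroup.closure_mono ?_ hmem
      rintro f ⟨t, ⟨ht, hφ⟩, rfl⟩
      exact ⟨t, ⟨⟨p, hp, ht⟩, hφ⟩, rfl⟩
    rw [hd] at this
    obtain ⟨k, hk⟩ := AddSubgroup.mem_zmultiples_iff.1 this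
    exact hm (hk ▸ (Int.natCast_dvd.2 hpd).mul_left k)
  have h1 : (1 : ℤ) ∈ J := by
    rw [hd]
    rcases Int.natAbs_eq_iff.1 hd1 with h | h
    · rw [h]; exact AddSubgroup.mem_zmultiples _
    · rw [h]; exact AddSubgroup.mem_zmultiples_iff.2 ⟨-1, by simp⟩
  simpa [J] using h1

theorem mem_indSpan_elem {G : Type u} [Group G] [Fintype G] {χ : G → ℂ} (hχ : IsCharacter G χ) :
    χ ∈ indSpan (fun E : Subgroup G => IsElem E) := by
  have h := mul_mem_indSpan (one_mem_indSpan G) hχ
  rwa [show (fun _ : G => (1 : ℂ)) * χ = χ from one_mul χ] at h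

/-- Brauer's induction theorem. -/
theorem brauer {G : Type u} [Group G] [Fintype G] {χ : G → ℂ} (hχ : IsCharacter G χ) :
    χ ∈ linSpan (fun E : Subgroup G => IsElem E) := by
  refine indSpan_le_linSpan ?_ ?_ (mem_indSpan_elem hχ)
  · rintro E ⟨p, hp, hE⟩ H
    haveI : Fact p.Prime := ⟨hp⟩
    exact ⟨p, hp, isElementary_map (isElementary_subgroup hE H)⟩
  · rintro E ⟨p, hp, hE⟩
    haveI : Fact p.Prime := ⟨hp⟩
    exact isNilpotent_of_isElementary hE

/-- Brauer's characterisation of characters. -/
theorem isGeneralized_of_elem {G : Type u} [Group G] [Fintype G] {θ : G → ℂ}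
    (hθ : IsClassFunction G θ)
    (h : ∀ E : Subgroup G, IsElem E → IsGeneralizedCharacter E (fun e : E => θ e)) :
    IsGeneralizedCharacter G θ := by
  have key : ∀ f ∈ indSpan (fun E : Subgroup G => IsElem E), IsGeneralizedCharacter G (f * θ) := by
    intro f hf
    induction hf using AddSubgroup.closure_induction with
    | mem x hx =>
      obtain ⟨⟨E, φ⟩, ⟨hE, hφ⟩, rfl⟩ := hx
      simp only
      rw [← indFun_mul_res E φ θ hθ]
      exact IsGen.ind E (IsGen.mul (IsGen.of_char hφ) (h E hE))
    | zero => rw [zero_mul]; exact IsGen.zero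
    | add x y _ _ hx hy => rw [add_mul]; exact IsGen.add hx hy
    | neg x _ hx => rw [neg_mul]; exact IsGen.neg hx
  have h1 := key _ (one_mem_indSpan G)
  rwa [show (fun _ : G => (1 : ℂ)) * θ = θ from one_mul θ] at h1

end Cfsg.Agent.CharInduce
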