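import Cfsg.Agent.CharInduce.Det
import Cfsg.Agent.CharInduce.Gallagher
import Cfsg.Agent.H35.Extend

/-!
# Extending invariant characters when degree or determinantal order is prime to the index
-/

namespace Cfsg.Agent.CharInduce

open Cfsg.Agent.CharBasic Module
open Cfsg.Agent.H35.Extend

universe u

variable {G : Type u} [Group G] [Finite G] {N : Subgroup G} [hN : N.Normal]

omit [Finite G] in
theorem hom_pow_retraction {n : ℕ} (ρ : Representation ℂ N (Fin n → ℂ)) [ρ.IsIrreducible]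
    (c : ℂˣ) :
    (MonoidHom.toHomUnits ((LinearMap.det).comp (op N ρ))) (scalarHom N ρ c) = c ^ n := by
  apply Units.ext
  rw [MonoidHom.coe_toHomUnits, MonoidHom.comp_apply, op_scalarHom,
    Algebra.algebraMap_eq_smul_one, Units.val_pow_eq_pow_val, Module.End.one_eq_id,
    LinearMap.det_smul, LinearMap.det_id, mul_one]
  simp

/-- A retraction with scalar exponent prime to the index gives an extension. -/
theorem exists_extension_of_exponent {n : ℕ} (ρ : Representation ℂ N (Fin n → ℂ))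
    [ρ.IsIrreducible] (hinv : ∀ (g : G) (m : N), ρ.character (nconj N g m) = ρ.character m)
    (ω : twinGroup N ρ →* ℂˣ) (k : ℕ) (hN' : ∀ m, ω (baseHom N ρ m) = 1)
    (hc : ∀ c, ω (scalarHom N ρ c) = c ^ k) (hcop : Nat.Coprime k N.index) :
    ∃ χ : G → ℂ, IsIrrCharacter G χ ∧ ∀ m : N, χ m = ρ.character m := by
  obtain ⟨ψ, hψN, hψc⟩ := exists_power_retraction ρ hinv N ρ le_rfl (fun m => rfl)
  obtain ⟨a, b, hab⟩ := exists_int_inverse hcop
  refine exists_extension_of_retraction ρ hinv (ω ^ a * ψ ^ b) (fun m => ?_) (fun c => ?_)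
  · simp [hN' m, hψN m]
  · rw [MonoidHom.mul_apply, MonoidHom.zpow_apply, MonoidHom.zpow_apply, hc, hψc, ← zpow_natCast,
      ← zpow_natCast, ← zpow_mul, ← zpow_mul, ← zpow_add, mul_comm (k : ℤ), mul_comm (N.index : ℤ),
      hab, zpow_one]

omit [Finite G] in
theorem bezout_pow {M : Type*} [CommGroup M] (x : M) {d k : ℕ} {a b : ℤ} (hk : x ^ k = 1)
    (hab : a * (d : ℤ) + b * (k : ℤ) = 1) : (x ^ a) ^ d = x ∧ (x ^ d) ^ a = x := by
  have h : x ^ (a * (d : ℤ)) = x := by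
    calc x ^ (a * (d : ℤ)) = x ^ (a * (d : ℤ)) * (x ^ k) ^ b := by rw [hk, one_zpow, mul_one]
      _ = x := by rw [← zpow_natCast x k, ← zpow_mul, ← zpow_add, mul_comm (k : ℤ), hab, zpow_one]
  refine ⟨?_, ?_⟩
  · rw [← zpow_natCast, ← zpow_mul]; exact h
  · rw [← zpow_natCast, ← zpow_mul, mul_comm]; exact h

omit [Finite G] in
theorem nconj_invariant {ϑ : N → ℂ}
    (hinv : ∀ (g : G) (n : N), ϑ ⟨g * n * g⁻¹, hN.conj_mem (n : G) n.2 g⟩ = ϑ n) {m : ℕ}
    {ρ : Representation ℂ N (Fin m → ℂ)} (hρ : ρ.character = ϑ) :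
    ∀ (g : G) (x : N), ρ.character (nconj N g x) = ρ.character x := fun g x => by
  rw [hρ]; exact hinv g x

/-- Extension when the determinant extends and the degree is prime to the index. -/
theorem exists_extension_of_det {ϑ : N → ℂ} (hϑ : IsIrrCharacter N ϑ)
    (hinv : ∀ (g : G) (n : N), ϑ ⟨g * n * g⁻¹, hN.conj_mem (n : G) n.2 g⟩ = ϑ n) {d : ℕ}
    (hd : ϑ 1 = d) (hcop : Nat.Coprime N.index d) (μ : G →* ℂˣ)
    (hμ : ∀ n : N, (μ n : ℂ) = detChar ϑ n) :
    ∃ χ : G → ℂ, IsIrrCharacter G χ ∧ ∀ n : N, χ n = ϑ n := by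
  obtain ⟨m, ρ, hρ, hρχ⟩ := id hϑ
  have hm : m = d := by
    have : (m : ℂ) = d := by rw [← hd, ← hρχ]; simp
    exact_mod_cast this
  subst hm
  obtain ⟨χ, hχ, hres⟩ := exists_extension_of_exponent ρ (nconj_invariant hinv hρχ)
    (MonoidHom.toHomUnits ((LinearMap.det).comp (op N ρ)) * (μ.comp (proj N ρ))⁻¹) m
    (fun x => by
      rw [MonoidHom.mul_apply, MonoidHom.inv_apply, MonoidHom.comp_apply, proj_baseHom,
        mul_inv_eq_one]
      apply Units.ext
      rw [MonoidHom.coe_toHomUnits, MonoidHom.comp_apply, op_baseHom, hμ, detChar_eq ρ hρχ]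
      exact (coe_detHom ρ x).symm)
    (fun c => by
      rw [MonoidHom.mul_apply, MonoidHom.inv_apply, MonoidHom.comp_apply, proj_scalarHom, map_one,
        inv_one, mul_one, hom_pow_retraction])
    hcop.symm
  exact ⟨χ, hχ, fun x => (hres x).trans (congrFun hρχ x)⟩

/-- Extension when degree and determinantal order are prime to the index. -/
theorem exists_extension_of_coprime {ϑ : N → ℂ} (hϑ : IsIrrCharacter N ϑ)
    (hinv : ∀ (g : G) (n : N), ϑ ⟨g * n * g⁻¹, hN.conj_mem (n : G) n.2 g⟩ = ϑ n) {d : ℕ}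
    (hd : ϑ 1 = d) (hcop : Nat.Coprime N.index (detOrder ϑ * d)) :
    ∃ χ : G → ℂ, IsIrrCharacter G χ ∧ ∀ n : N, χ n = ϑ n := by
  obtain ⟨m, ρ, hρ, hρχ⟩ := id hϑ
  have hm : m = d := by
    have : (m : ℂ) = d := by rw [← hd, ← hρχ]; simp
    exact_mod_cast this
  subst hm
  obtain ⟨χ, hχ, hres⟩ := exists_extension_of_exponent ρ (nconj_invariant hinv hρχ)
    (MonoidHom.toHomUnits ((LinearMap.det).comp (op N ρ)) ^ detOrder ϑ) (detOrder ϑ * m)
    (fun x => by
      have h := congrArg (fun f : N →* ℂˣ => f x) (pow_orderOf_eq_one (detHom ρ))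
      rw [detOrder_eq ρ hρχ, MonoidHom.pow_apply]
      refine Eq.trans ?_ h
      show _ = (detHom ρ x) ^ orderOf (detHom ρ)
      congr 1)
    (fun c => by
      rw [MonoidHom.pow_apply, hom_pow_retraction, ← pow_mul, mul_comm])
    hcop.symm
  exact ⟨χ, hχ, fun x => (hres x).trans (congrFun hρχ x)⟩

/-- Two extensions differ by a linear character of the quotient. -/
theorem exists_hom_between_extensions {ϑ : N → ℂ} (hϑ : IsIrrCharacter N ϑ) {χ χ' : G → ℂ}
    (hχ : IsIrrCharacter G χ) (hres : ∀ n : N, χ n = ϑ n) (hχ' : IsIrrCharacter G χ')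
    (hres' : ∀ n : N, χ' n = ϑ n) :
    ∃ l : G →* ℂˣ, (∀ n ∈ N, l n = 1) ∧ χ' = fun g => (l g : ℂ) * χ g := by
  classical
  cases nonempty_fintype G
  haveI := Fintype.ofFinite N
  have hϑinv : ∀ x : G, conjFun N ϑ x = ϑ := fun x => by
    rw [show ϑ = fun n : N => χ n from funext fun n => (hres n).symm]
    exact conjFun_res N (CharBasic.IsIrr.isClassFunction hχ) x
  have h1 : (fun _ : N => (1 : ℂ)) * ϑ = ϑ := one_mul ϑ
  obtain ⟨-, -, g3⟩ := gallagher N isIrrCharacter_one hϑ (conjFun_one_char N) hϑinv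
    (by rw [h1]; exact hϑ) hχ hres
  obtain ⟨β, hβ, he⟩ := g3 χ' hχ' (by
    rw [h1, classInner_indFun_left N ϑ χ' (CharBasic.IsIrr.isClassFunction hχ'),
      show (fun n : N => χ' n) = ϑ from funext hres', classInner_irr_self hϑ]
    exact one_ne_zero)
  have hβN : ∀ n ∈ N, (β : G → ℂ) n = (β : G → ℂ) 1 := by
    refine (constituent_one_iff N β.2).1 ?_
    rw [mem_above, classInner_indFun_left N _ _ (CharBasic.IsIrr.isClassFunction β.2)] at hβ
    intro h
    apply hβ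
    rw [← conj_classInner, h, map_zero]
  have hβ1 : (β : G → ℂ) 1 = 1 := by
    have h := congrFun he 1
    have hone : ((1 : N) : G) = 1 := rfl
    rw [Pi.mul_apply, ← hone, hres, hres'] at h
    exact (mul_eq_right₀ (CharBasic.IsIrr.one_ne_zero hϑ)).1 h
  obtain ⟨l, hl⟩ := IsChar.exists_hom_of_degree_one (CharBasic.IsIrr.isCharacter β.2) hβ1
  refine ⟨l, fun n hn => Units.ext ?_, ?_⟩
  · rw [← hl, hβN n hn, hβ1, Units.val_one]
  · rw [← he]
    funext g
    rw [Pi.mul_apply, hl]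

omit [Finite G] hN in
/-- Multiplying an extension by a linear character trivial on `N`. -/
theorem isIrr_hom_mul {χ : G → ℂ} [Fintype G] (hχ : IsIrrCharacter G χ) (l : G →* ℂˣ) :
    IsIrrCharacter G (fun g => (l g : ℂ) * χ g) := by
  refine isIrr_of_norm_one (IsChar.mul (isCharacter_hom l) (CharBasic.IsIrr.isCharacter hχ)) ?_
  rw [← classInner_irr_self hχ]
  simp only [classInner_def, map_mul]
  congr 1
  refine Finset.sum_congr rfl fun g _ => ?_
  have h : (l g : ℂ) * (starRingEnd ℂ) (l g : ℂ) = 1 := by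
    rw [Complex.mul_conj', norm_hom]; simp
  linear_combination (χ g * (starRingEnd ℂ) (χ g)) * h

/-- Adjust an extension to a prescribed determinant. -/
theorem exists_unique_extension_det {ϑ : N → ℂ} (hϑ : IsIrrCharacter N ϑ) {d : ℕ}
    (hd : ϑ 1 = d) (hcop : Nat.Coprime N.index d) {η : G → ℂ} (hη : IsIrrCharacter G η)
    (hres : ∀ n : N, η n = ϑ n) (μ : G →* ℂˣ) (hμ : ∀ n : N, (μ n : ℂ) = detChar ϑ n) :
    ∃! χ : G → ℂ, IsIrrCharacter G χ ∧ (∀ n : N, χ n = ϑ n) ∧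
      detChar χ = fun g => (μ g : ℂ) := by
  cases nonempty_fintype G
  have hηc := CharBasic.IsIrr.isCharacter hη
  have hη1 : η 1 = d := by rw [← hd, ← hres 1]; rfl
  obtain ⟨D, hD⟩ := exists_detChar_eq_hom hηc
  have hν : ∀ n ∈ N, (μ * D⁻¹) n = 1 := fun n hn => by
    rw [MonoidHom.mul_apply, MonoidHom.inv_apply, mul_inv_eq_one]
    apply Units.ext
    rw [show (D n : ℂ) = detChar η n from (congrFun hD n).symm, hμ ⟨n, hn⟩,
      detChar_res N hηc hres ⟨n, hn⟩]
  obtain ⟨a, b, hab⟩ := exists_int_inverse hcop.symm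
  set ν := μ * D⁻¹ with hνdef
  set l := ν ^ a with hl
  have hld : l ^ d = ν := (bezout_pow ν (hom_pow_index N ν hν) hab).1
  have hlN : ∀ n ∈ N, l n = 1 := fun n hn => by
    rw [hl, MonoidHom.zpow_apply, hν n hn, one_zpow]
  refine ⟨fun g => (l g : ℂ) * η g, ⟨isIrr_hom_mul hη l, fun n => by simp [hlN n n.2, hres],
    funext fun g => ?_⟩, ?_⟩
  · rw [detChar_mul_hom hηc l hη1 g, hD]
    show (l g : ℂ) ^ d * (D g : ℂ) = (μ g : ℂ)
    rw [← Units.val_pow_eq_pow_val, ← MonoidHom.pow_apply, hld, hνdef, ← Units.val_mul,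
      MonoidHom.mul_apply, MonoidHom.inv_apply, inv_mul_cancel_right]
  · rintro χ' ⟨hχ', hres', hdet'⟩
    obtain ⟨m, hmN, hm⟩ := exists_hom_between_extensions hϑ hη hres hχ' hres'
    have hmd : m ^ d = ν := by
      refine MonoidHom.ext fun g => Units.ext ?_
      have h : detChar χ' g = (μ g : ℂ) := congrFun hdet' g
      rw [hm, detChar_mul_hom hηc m hη1 g, hD] at h
      rw [MonoidHom.pow_apply, Units.val_pow_eq_pow_val, hνdef, MonoidHom.mul_apply,
        MonoidHom.inv_apply, Units.val_mul, ← h, mul_assoc, ← Units.val_mul, mul_inv_cancel,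
        Units.val_one, mul_one]
    have hml : m = l := by
      rw [hl, ← hmd]
      exact (bezout_pow m (hom_pow_index N m hmN) hab).2.symm
    rw [hm, hml]

/-- A linear character extension with coprime order. -/
theorem exists_hom_extension_coprime (l : N →* ℂˣ)
    (hinv : ∀ (g : G) (n : N), l ⟨g * n * g⁻¹, hN.conj_mem (n : G) n.2 g⟩ = l n)
    (hcop : Nat.Coprime N.index (orderOf l)) :
    ∃ μ : G →* ℂˣ, (∀ n : N, μ n = l n) ∧ orderOf μ = orderOf l ∧
      ∀ μ' : G →* ℂˣ, (∀ n : N, μ' n = l n) → Nat.Coprime N.index (orderOf μ') → μ' = μ := by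
  cases nonempty_fintype G
  haveI := Fintype.ofFinite N
  obtain ⟨χ, hχ, hres⟩ := exists_extension_of_coprime (d := 1) (isIrrCharacter_hom l)
    (fun g n => by rw [hinv g n]) (by simp) (by
      rw [mul_one, detOrder, detChar_hom, orderOf_homFun]; exact hcop)
  obtain ⟨μ₀, hμ₀⟩ := IsChar.exists_hom_of_degree_one (CharBasic.IsIrr.isCharacter hχ)
    (by rw [← show ((1 : N) : G) = 1 from rfl, hres]; simp)
  have hμ₀N : ∀ n : N, μ₀ n = l n := fun n => Units.ext (by rw [← hμ₀, hres])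
  set o := orderOf l with ho
  have hν : ∀ n ∈ N, (μ₀ ^ o) n = 1 := fun n hn => by
    rw [MonoidHom.pow_apply, hμ₀N ⟨n, hn⟩, ← MonoidHom.pow_apply, ho, pow_orderOf_eq_one,
      MonoidHom.one_apply]
  obtain ⟨a, b, hab⟩ := exists_int_inverse hcop.symm
  set ν := μ₀ ^ o with hνdef
  set μ := μ₀ * (ν ^ a)⁻¹ with hμdef
  have hμN : ∀ n : N, μ n = l n := fun n => by
    rw [hμdef, MonoidHom.mul_apply, MonoidHom.inv_apply, MonoidHom.zpow_apply, hν n n.2, one_zpow,
      inv_one, mul_one, hμ₀N]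
  have hμo : μ ^ o = 1 := by
    have h1 : (ν ^ a) ^ o = ν := (bezout_pow ν (hom_pow_index N ν hν) hab).1
    refine MonoidHom.ext fun g => ?_
    have e : ((ν ^ a) g) ^ o = ν g := DFunLike.congr_fun h1 g
    show (μ₀ g * ((ν ^ a) g)⁻¹) ^ o = 1
    rw [mul_pow, inv_pow, e]
    exact mul_inv_cancel _
  have hord : orderOf μ = o := by
    refine Nat.dvd_antisymm (orderOf_dvd_of_pow_eq_one hμo) (orderOf_dvd_of_pow_eq_one ?_)
    refine MonoidHom.ext fun n => ?_
    rw [MonoidHom.pow_apply, MonoidHom.one_apply, ← hμN, ← MonoidHom.pow_apply,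
      pow_orderOf_eq_one, MonoidHom.one_apply]
  refine ⟨μ, hμN, hord, fun μ' hμ'N hcop' => ?_⟩
  have hm : ∀ n ∈ N, (μ' * μ⁻¹) n = 1 := fun n hn => by
    rw [MonoidHom.mul_apply, MonoidHom.inv_apply, hμ'N ⟨n, hn⟩, hμN ⟨n, hn⟩, mul_inv_cancel]
  have h1 : orderOf (μ' * μ⁻¹) ∣ N.index := orderOf_dvd_of_pow_eq_one (hom_pow_index N _ hm)
  have h2 : orderOf (μ' * μ⁻¹) ∣ orderOf μ' * o := by
    refine orderOf_dvd_of_pow_eq_one ?_
    refine MonoidHom.ext fun g => ?_
    have e1 : μ' g ^ orderOf μ' = 1 := DFunLike.congr_fun (pow_orderOf_eq_one μ') g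
    have e2 : μ g ^ o = 1 := DFunLike.congr_fun hμo g
    show (μ' g * (μ g)⁻¹) ^ (orderOf μ' * o) = 1
    rw [mul_pow, pow_mul, e1, one_pow, one_mul, inv_pow, mul_comm, pow_mul, e2, one_pow, inv_one]
  have h3 := Nat.eq_one_of_dvd_coprimes (hcop'.mul_right hcop) h1 h2
  exact mul_inv_eq_one.1 (orderOf_eq_one_iff.1 h3)


/-- An invariant linear character extends if it extends locally at every prime dividing its
order. -/
theorem exists_hom_extension_local (l : N →* ℂˣ)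
    (hinv : ∀ (g : G) (n : N), l ⟨g * n * g⁻¹, hN.conj_mem (n : G) n.2 g⟩ = l n)
    (hloc : ∀ p : ℕ, p.Prime → p ∣ orderOf l → ∃ (P : Subgroup G) (hNP : N ≤ P) (ν : P →* ℂˣ),
      ¬ p ∣ P.index ∧ ∀ n : N, ν ⟨(n : G), hNP n.2⟩ = l n) :
    ∃ μ : G →* ℂˣ, ∀ n : N, μ n = l n := by
  cases nonempty_fintype G
  haveI := Fintype.ofFinite N
  obtain ⟨m, ρ, hρ, hρχ⟩ := isIrrCharacter_hom l
  have hm : m = 1 := by
    have : (m : ℂ) = 1 := by simpa using congrFun hρχ 1
    exact_mod_cast this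
  subst hm
  have hinv' : ∀ (g : G) (x : N), ρ.character (nconj N g x) = ρ.character x := fun g x => by
    rw [hρχ]
    exact congrArg Units.val (hinv g x)
  let J : AddSubgroup ℤ :=
    { carrier := {k | ∃ ψ : twinGroup N ρ →* ℂˣ, (∀ m, ψ (baseHom N ρ m) = 1) ∧
        ∀ c, ψ (scalarHom N ρ c) = c ^ k}
      zero_mem' := ⟨1, fun m => rfl, fun c => by simp⟩
      add_mem' := by
        rintro a b ⟨ψ, hψ, hψ'⟩ ⟨θ, hθ, hθ'⟩
        exact ⟨ψ * θ, fun m => by simp [hψ, hθ], fun c => by simp [hψ', hθ', zpow_add]⟩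
      neg_mem' := by
        rintro a ⟨ψ, hψ, hψ'⟩
        exact ⟨ψ⁻¹, fun m => by simp [hψ], fun c => by simp [hψ', zpow_neg]⟩ }
  obtain ⟨d, hd⟩ := Int.subgroup_cyclic J
  rw [← AddSubgroup.zmultiples_eq_closure] at hd
  have ho : (orderOf l : ℤ) ∈ J := by
    have hl : detHom ρ = l := MonoidHom.ext fun g => Units.ext (by
      have h1 : detChar (fun g : N => (l g : ℂ)) g = (l g : ℂ) := congrFun (detChar_hom l) g
      rw [detChar_eq ρ hρχ] at h1
      rw [← h1])
    refine ⟨(MonoidHom.toHomUnits ((LinearMap.det).comp (op N ρ))) ^ orderOf l, fun x => ?_,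
      fun c => ?_⟩
    · have h := congrArg (fun f : N →* ℂˣ => f x) (pow_orderOf_eq_one l)
      rw [MonoidHom.pow_apply]
      refine Eq.trans ?_ h
      show _ = (l x) ^ orderOf l
      congr 1
      rw [← hl]
      rfl
    · rw [MonoidHom.pow_apply, hom_pow_retraction, pow_one, zpow_natCast]
  have hd1 : d.natAbs = 1 := by
    by_contra hne
    obtain ⟨p, hp, hpd⟩ := Nat.exists_prime_and_dvd hne
    have hdvd : ∀ k : ℕ, (k : ℤ) ∈ J → p ∣ k := fun k hk => by
      rw [hd] at hk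
      obtain ⟨c, hc⟩ := AddSubgroup.mem_zmultiples_iff.mp hk
      apply Int.natCast_dvd_natCast.mp
      rw [← hc, smul_eq_mul]
      exact (Int.natCast_dvd.mpr hpd).mul_left c
    obtain ⟨P, hNP, ν, hidx, hν⟩ := hloc p hp (hdvd _ ho)
    haveI := Fintype.ofFinite P
    obtain ⟨m', σ, hσ, hσχ⟩ := isIrrCharacter_hom ν
    obtain ⟨σ', hσ'⟩ := exists_conj_restrict (Subgroup.inclusion hNP) ρ σ (fun a => by
      rw [hσχ, hρχ]
      exact congrArg Units.val (hν a))
    obtain ⟨ψ, hψ, hψ'⟩ := exists_power_retraction ρ hinv' P σ' hNP hσ'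
    exact hidx (hdvd _ ⟨ψ, hψ, fun c => by rw [hψ', zpow_natCast]⟩)
  have h1 : (1 : ℤ) ∈ J := by
    rw [hd]
    rcases Int.natAbs_eq_iff.mp hd1 with h | h
    · rw [h]; exact AddSubgroup.mem_zmultiples _
    · rw [h]
      exact AddSubgroup.mem_zmultiples_iff.mpr ⟨-1, by simp⟩
  obtain ⟨ψ, hψ, hψ'⟩ := h1
  obtain ⟨χ, hχ, hres⟩ := exists_extension_of_retraction ρ hinv' ψ hψ fun c => by
    rw [hψ', zpow_one]
  rw [hρχ] at hres
  obtain ⟨μ, hμ⟩ := IsChar.exists_hom_of_degree_one (CharBasic.IsIrr.isCharacter hχ)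
    (by rw [← show ((1 : N) : G) = 1 from rfl, hres]; simp)
  exact ⟨μ, fun n => Units.ext (by rw [← hμ, hres])⟩

end Cfsg.Agent.CharInduce
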