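import Cfsg.Prelude.Def_CharExt
import Cfsg.Agent.CharBasic.Equivalence
import Cfsg.Agent.CharInduce.Ops

/-!
# The determinantal character
-/

namespace Cfsg.Agent.CharInduce

open Cfsg.Agent.CharBasic Module

universe u v

variable {G : Type u} [Group G] {V : Type v} [AddCommGroup V] [Module ℂ V]

/-- The determinant of a representation, as a homomorphism. -/
noncomputable def detHom (ρ : Representation ℂ G V) : G →* ℂˣ :=
  MonoidHom.toHomUnits ((LinearMap.det).comp ρ)

@[simp] theorem coe_detHom (ρ : Representation ℂ G V) (g : G) :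
    (detHom ρ g : ℂ) = LinearMap.det (ρ g) := rfl

/-- `detChar` is the determinant of any affording representation. -/
theorem detChar_eq [Finite G] [FiniteDimensional ℂ V] (ρ : Representation ℂ G V) {χ : G → ℂ}
    (h : ρ.character = χ) : detChar χ = fun g => (detHom ρ g : ℂ) := by
  have hc : IsCharacter G χ := h ▸ isCharacter_character ρ
  unfold detChar
  rw [dif_pos hc]
  funext g
  set σ := Classical.choose (Classical.choose_spec hc) with hσdef
  have hσ : σ.character = χ := Classical.choose_spec (Classical.choose_spec hc)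
  obtain ⟨e⟩ := nonempty_equiv_of_character_eq ρ σ (h.trans hσ.symm)
  rw [coe_detHom, ← LinearMap.det_conj (ρ g) e.toLinearEquiv]
  congr 1
  refine LinearMap.ext fun v => ?_
  have := e.toIntertwiningMap.isIntertwining _ _ g (e.toLinearEquiv.symm v)
  simp only [LinearMap.coe_comp, LinearEquiv.coe_coe, Function.comp_apply]
  refine Eq.trans ?_ this.symm
  show σ g v = σ g (e.toLinearEquiv (e.toLinearEquiv.symm v))
  rw [LinearEquiv.apply_symm_apply]

theorem exists_detChar_eq_hom [Finite G] {χ : G → ℂ} (h : IsCharacter G χ) :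
    ∃ D : G →* ℂˣ, detChar χ = fun g => (D g : ℂ) := by
  obtain ⟨n, ρ, hρ⟩ := h
  exact ⟨detHom ρ, detChar_eq ρ hρ⟩

/-- Restriction of the determinant. -/
theorem detChar_res [Finite G] (N : Subgroup G) {χ : G → ℂ} (h : IsCharacter G χ)
    {ϑ : N → ℂ} (hext : ∀ n : N, χ n = ϑ n) (n : N) : detChar χ n = detChar ϑ n := by
  obtain ⟨m, ρ, rfl⟩ := h
  rw [detChar_eq ρ rfl,
    detChar_eq (G := N) (MonoidHom.comp ρ N.subtype : Representation ℂ N _) (funext hext)]
  rfl

/-- The determinant of a product with a linear character. -/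
theorem detChar_mul_hom [Finite G] {χ : G → ℂ} (h : IsCharacter G χ) (l : G →* ℂˣ) {d : ℕ}
    (hd : χ 1 = d) (g : G) :
    detChar (fun g => (l g : ℂ) * χ g) g = (l g : ℂ) ^ d * detChar χ g := by
  obtain ⟨m, ρ, rfl⟩ := h
  let σ : Representation ℂ G (Fin m → ℂ) :=
    { toFun := fun g => (l g : ℂ) • ρ g
      map_one' := by simp
      map_mul' := fun a b => by
        rw [map_mul, map_mul, Units.val_mul, smul_mul_smul_comm] }
  have hσ : σ.character = fun g => (l g : ℂ) * ρ.character g := by
    funext x
    simp [σ, Representation.character]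
  rw [detChar_eq σ hσ, detChar_eq ρ rfl]
  have hm : m = d := by
    have : (m : ℂ) = d := by rw [← hd]; simp
    exact_mod_cast this
  show LinearMap.det ((l g : ℂ) • ρ g) = _
  rw [LinearMap.det_smul]
  simp [hm, coe_detHom]

/-- The determinant of a linear character is itself. -/
theorem detChar_hom [Finite G] (l : G →* ℂˣ) : detChar (fun g => (l g : ℂ)) = fun g => (l g : ℂ) := by
  let ρ : Representation ℂ G ℂ :=
    { toFun := fun g => (l g : ℂ) • (LinearMap.id : ℂ →ₗ[ℂ] ℂ)
      map_one' := by simp [Module.End.one_eq_id]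
      map_mul' := fun a b => by ext; simp [mul_comm] }
  rw [detChar_eq ρ (funext fun g => by simp [Representation.character, ρ, LinearMap.trace_id])]
  funext g
  simp [ρ, LinearMap.det_smul]

/-- Homomorphisms as functions, multiplicatively. -/
def homToFun (G : Type u) [Group G] : (G →* ℂˣ) →* (G → ℂ) where
  toFun l g := (l g : ℂ)
  map_one' := by funext g; simp
  map_mul' l m := by funext g; simp

theorem homToFun_injective : Function.Injective (homToFun G) := fun _ _ h =>
  MonoidHom.ext fun g => Units.ext (congrFun h g)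

theorem orderOf_homFun (l : G →* ℂˣ) : orderOf (fun g => (l g : ℂ)) = orderOf l :=
  orderOf_injective (homToFun G) homToFun_injective l

theorem detOrder_eq [Finite G] [FiniteDimensional ℂ V] (ρ : Representation ℂ G V) {χ : G → ℂ}
    (h : ρ.character = χ) : detOrder χ = orderOf (detHom ρ) := by
  rw [detOrder, detChar_eq ρ h, orderOf_homFun]

theorem hom_pow_card [Finite G] (l : G →* ℂˣ) : l ^ Nat.card G = 1 := by
  refine MonoidHom.ext fun g => ?_
  rw [MonoidHom.pow_apply, MonoidHom.one_apply, ← map_pow, pow_card_eq_one', map_one]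

theorem orderOf_hom_pos [Finite G] (l : G →* ℂˣ) : 0 < orderOf l :=
  IsOfFinOrder.orderOf_pos (isOfFinOrder_iff_pow_eq_one.2 ⟨_, Nat.card_pos, hom_pow_card l⟩)

theorem orderOf_hom_dvd_card [Finite G] (l : G →* ℂˣ) : orderOf l ∣ Nat.card G :=
  orderOf_dvd_of_pow_eq_one (hom_pow_card l)

/-- A linear character trivial on a normal subgroup has order dividing the index. -/
theorem hom_pow_index (N : Subgroup G) [N.Normal] [N.FiniteIndex] (l : G →* ℂˣ)
    (h : ∀ n ∈ N, l n = 1) : l ^ N.index = 1 := by
  refine MonoidHom.ext fun g => ?_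
  rw [MonoidHom.pow_apply, MonoidHom.one_apply, ← map_pow]
  exact h _ (N.pow_index_mem g)

/-- Integer inverse modulo a coprime number. -/
theorem exists_int_inverse {a b : ℕ} (h : Nat.Coprime a b) : ∃ u v : ℤ, u * a + v * b = 1 :=
  Int.isCoprime_iff_gcd_eq_one.2 (show Int.gcd (a : ℤ) b = 1 from h)

end Cfsg.Agent.CharInduce
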