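import Cfsg.Agent.CharInduce.Transport

/-!
# Monomial characters: nilpotent groups are M-groups
-/

namespace Cfsg.Agent.CharInduce

open scoped ComplexConjugate
open Cfsg.Agent.CharBasic Finset

universe u

/-- `χ` is induced from a linear character of a subgroup. -/
def IsMonomial {G : Type u} [Group G] [Fintype G] (χ : G → ℂ) : Prop :=
  ∃ (H : Subgroup G) (lam : H →* ℂˣ), χ = indFun H (fun h => (lam h : ℂ))

theorem isMonomial_of_hom {G : Type u} [Group G] [Fintype G] (l : G →* ℂˣ) :
    IsMonomial (fun g => (l g : ℂ)) := by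
  refine ⟨⊤, l.comp (⊤ : Subgroup G).subtype, ?_⟩
  exact (indFun_top _ (CharBasic.IsChar.isClassFunction (isCharacter_hom l))).symm

theorem isMonomial_ind {G : Type u} [Group G] [Fintype G] (T : Subgroup G) [Fintype T] {φ : T → ℂ}
    (h : IsMonomial φ) : IsMonomial (indFun T φ) := by
  obtain ⟨E, l, rfl⟩ := h
  exact ⟨E.map T.subtype, l.comp (E.equivMapOfInjective T.subtype T.subtype_injective).symm.toMonoidHom,
    indFun_map T E _⟩

theorem isMonomial_inflate {G : Type u} [Group G] [Fintype G] {Q : Type u} [Group Q] [Fintype Q]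
    (f : G →* Q) (hf : Function.Surjective f) {φ : Q → ℂ} (h : IsMonomial φ) :
    IsMonomial (fun g => φ (f g)) := by
  obtain ⟨E, l, rfl⟩ := h
  refine ⟨E.comap f, l.comp ((f.comp (E.comap f).subtype).codRestrict E fun x => x.2), ?_⟩
  funext g
  exact (indFun_comap f hf E _ g).symm

/-- Every irreducible character of a nilpotent group is monomial. -/
theorem isMonomial_of_nilpotent (G : Type u) [Group G] [Fintype G] [Group.IsNilpotent G]
    {χ : G → ℂ} (hχ : IsIrrCharacter G χ) : IsMonomial χ := by
  suffices h : ∀ (n : ℕ) (G : Type u) [Group G] [Fintype G] [Group.IsNilpotent G] (χ : G → ℂ),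
      Nat.card G = n → IsIrrCharacter G χ → IsMonomial χ from h _ G χ rfl hχ
  clear! G
  intro n
  induction n using Nat.strong_induction_on with
  | _ n ih =>
    intro G _ _ _ χ hn hχ
    classical
    have hχc := CharBasic.IsIrr.isCharacter hχ
    obtain ⟨m, ρ, hρ, hρχ⟩ := id hχ
    by_cases hker : MonoidHom.ker ρ = ⊥
    swap
    · -- factor through the quotient by the kernel
      set K : Subgroup G := MonoidHom.ker ρ with hK
      have hKχ : ∀ x ∈ K, χ x = χ 1 := fun x hx => by
        rw [← hρχ]
        simp only [Representation.character, map_one, MonoidHom.mem_ker.1 hx]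
      obtain ⟨ψ, -, hψ, hψi⟩ := IsChar.exists_deflate hχc K hKχ
      haveI : Fintype (G ⧸ K) := Fintype.ofFinite _
      have hlt : Nat.card (G ⧸ K) < n := by
        rw [← hn, ← Subgroup.index_eq_card, ← K.card_mul_index]
        have h1 : 1 < Nat.card K := (Subgroup.one_lt_card_iff_ne_bot K).2 hker
        have h2 : 0 < K.index := Nat.pos_of_ne_zero Subgroup.FiniteIndex.index_ne_zero
        nlinarith
      rw [show χ = fun g : G => ψ (QuotientGroup.mk' K g) from funext hψ]
      exact isMonomial_inflate _ (QuotientGroup.mk'_surjective K)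
        (ih _ hlt (G ⧸ K) ψ rfl (hψi hχ))
    by_cases hcomm : ∀ a b : G, a * b = b * a
    · obtain ⟨l, hl⟩ :=
        IsChar.exists_hom_of_degree_one hχc (IsIrr.degree_one_of_comm hcomm hχ)
      rw [funext hl]
      exact isMonomial_of_hom l
    -- an abelian normal subgroup outside the centre
    have hcen : Subgroup.center G ≠ ⊤ := fun h => hcomm fun a b =>
      Subgroup.mem_center_iff.1 (h ▸ Subgroup.mem_top b) a
    haveI : Nontrivial (G ⧸ Subgroup.center G) := QuotientGroup.nontrivial_iff.2 hcen
    haveI : Group.IsNilpotent (G ⧸ Subgroup.center G) :=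
      Group.nilpotent_of_surjective _ (QuotientGroup.mk'_surjective _)
    haveI : Nontrivial (Subgroup.center (G ⧸ Subgroup.center G)) :=
      (Subgroup.nontrivial_iff_ne_bot _).2 (Group.IsNilpotent.center_ne_bot (G := G ⧸ Subgroup.center G))
    obtain ⟨q, hq⟩ := exists_ne (1 : Subgroup.center (G ⧸ Subgroup.center G))
    obtain ⟨x, hx⟩ := QuotientGroup.mk'_surjective (Subgroup.center G) (q : G ⧸ Subgroup.center G)
    set A := (Subgroup.zpowers (q : G ⧸ Subgroup.center G)).comap
      (QuotientGroup.mk' (Subgroup.center G)) with hA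
    haveI hZn : (Subgroup.zpowers (q : G ⧸ Subgroup.center G)).Normal :=
      ⟨fun a ha g => by
        rw [Subgroup.mem_center_iff.1 ((Subgroup.zpowers_le).2 q.2 ha) g, mul_inv_cancel_right]
        exact ha⟩
    haveI : A.Normal := hZn.comap _
    have hxA : x ∈ A := by rw [hA, Subgroup.mem_comap, hx]; exact Subgroup.mem_zpowers _
    have hxZ : x ∉ Subgroup.center G := fun h => hq (Subtype.ext (by
      rw [← hx]; exact (QuotientGroup.eq_one_iff x).2 h))
    have hAform : ∀ a ∈ A, ∃ i : ℤ, ∃ z ∈ Subgroup.center G, a = x ^ i * z := by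
      intro a ha
      obtain ⟨i, hi⟩ := Subgroup.mem_zpowers_iff.1 (Subgroup.mem_comap.1 ha)
      refine ⟨i, (x ^ i)⁻¹ * a, ?_, by group⟩
      rw [← QuotientGroup.eq_one_iff]
      show QuotientGroup.mk' (Subgroup.center G) ((x ^ i)⁻¹ * a) = 1
      rw [map_mul, map_inv, map_zpow, hx, ← hi, inv_mul_cancel]
    have hAcomm : ∀ a b : A, a * b = b * a := by
      intro a b
      obtain ⟨i, z, hz, ha⟩ := hAform a a.2
      obtain ⟨j, w, hw, hb⟩ := hAform b b.2
      apply Subtype.ext
      rw [Subgroup.coe_mul, Subgroup.coe_mul, ha, hb]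
      have e1 : Commute z (x ^ j * w) := (Subgroup.mem_center_iff.1 hz _).symm
      have e2 : Commute (x ^ i) (x ^ j * w) :=
        ((Commute.refl x).zpow_zpow i j).mul_right (Subgroup.mem_center_iff.1 hw _)
      exact e2.mul_left e1
    haveI := Fintype.ofFinite A
    obtain ⟨lam, hlam⟩ := exists_constituent (IsChar.res hχc A)
      (fun e => CharBasic.IsIrr.one_ne_zero hχ (congrFun e 1))
    have hT : inertia A (lam : A → ℂ) ≠ ⊤ := by
      intro htop
      have hinv : ∀ g : G, conjFun A (lam : A → ℂ) g = lam := fun g =>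
        (mem_inertia A).1 (htop ▸ Subgroup.mem_top g)
      have h := clifford_avg A hχ lam.2 hlam
      simp only [hinv, sum_const, card_univ, ← Nat.card_eq_fintype_card, htop,
        Subgroup.card_top] at h
      rw [← Nat.cast_smul_eq_nsmul ℂ, smul_comm] at h
      have h' := smul_right_injective _ (card_ne_zero_complex G) h
      obtain ⟨l, hl⟩ := IsChar.exists_hom_of_degree_one (CharBasic.IsIrr.isCharacter lam.2)
        (IsIrr.degree_one_of_comm hAcomm lam.2)
      have hnorm : ∀ a : A, ‖χ a‖ = ‖χ 1‖ := by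
        intro a
        have e1 := congrFun h' a
        have e2 := congrFun h' 1
        simp only [Pi.smul_apply, OneMemClass.coe_one, smul_eq_mul] at e1 e2
        rw [e1, e2, norm_mul, norm_mul, hl a, hl 1, norm_hom, norm_hom]
      obtain ⟨c, hc⟩ := (norm_character_eq_iff ρ x).1 (by
        rw [show ρ.character x = χ x from congrFun hρχ x, hnorm ⟨x, hxA⟩, ← hρχ]
        simp)
      apply hxZ
      rw [Subgroup.mem_center_iff]
      intro g
      apply (MonoidHom.ker_eq_bot_iff ρ).1 hker
      rw [map_mul, map_mul, hc]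
      ext v
      simp
    obtain ⟨φ, hφ, hind, -⟩ := exists_clifford_correspondent A hχ lam.2 hlam
    haveI : Fintype (inertia A (lam : A → ℂ)) := Fintype.ofFinite _
    have hlt : Nat.card (inertia A (lam : A → ℂ)) < n := by
      rw [← hn]
      refine lt_of_le_of_ne (Subgroup.card_le_card_group _) fun h => hT ?_
      exact Subgroup.eq_top_of_card_eq _ h
    rw [← hind]
    exact isMonomial_ind _ (ih _ hlt _ φ rfl hφ)

end Cfsg.Agent.CharInduce
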