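import Cfsg.Agent.CharInduce.Monomial

/-!
# Integral spans of induced functions
-/

namespace Cfsg.Agent.CharInduce

open Cfsg.Agent.CharBasic Finset

universe u

/-- An element of an additive closure is an integral combination given by a list. -/
theorem exists_list_of_mem_closure {α M : Type*} [AddCommGroup M] [Module ℂ M] (Q : α → Prop)
    (F : α → M) {f : M} (hf : f ∈ AddSubgroup.closure {f | ∃ a, Q a ∧ f = F a}) :
    ∃ l : List (α × ℤ), (∀ t ∈ l, Q t.1) ∧ f = (l.map fun t => (t.2 : ℂ) • F t.1).sum := by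
  induction hf using AddSubgroup.closure_induction with
  | mem x hx =>
    obtain ⟨a, ha, rfl⟩ := hx
    exact ⟨[(a, 1)], by simpa using ha, by simp⟩
  | zero => exact ⟨[], by simp, by simp⟩
  | add x y _ _ hx hy =>
    obtain ⟨l, hl, rfl⟩ := hx
    obtain ⟨m, hm, rfl⟩ := hy
    exact ⟨l ++ m, fun t ht => (List.mem_append.1 ht).elim (hl t) (hm t), by simp⟩
  | neg x _ hx =>
    obtain ⟨l, hl, rfl⟩ := hx
    refine ⟨l.map fun t => (t.1, -t.2), ?_, ?_⟩
    · intro t ht
      obtain ⟨s, hs, rfl⟩ := List.mem_map.1 ht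
      exact hl s hs
    · have hneg : ∀ l : List (α × ℤ), -((l.map fun t => (t.2 : ℂ) • F t.1).sum)
          = (((l.map fun t => (t.1, -t.2))).map fun t => (t.2 : ℂ) • F t.1).sum := by
        intro l
        induction l with
        | nil => simp
        | cons a l ih =>
          simp only [List.map_cons, List.sum_cons, neg_add]
          rw [ih]
          push_cast
          rw [neg_smul]
      exact hneg l

/-- The functions induced from characters of subgroups satisfying `P`, and their integral
combinations. -/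
def indSpan {G : Type u} [Group G] [Fintype G] (P : Subgroup G → Prop) : AddSubgroup (G → ℂ) :=
  AddSubgroup.closure {f | ∃ t : (E : Subgroup G) × (E → ℂ),
    (P t.1 ∧ IsCharacter t.1 t.2) ∧ f = indFun t.1 t.2}

variable {G : Type u} [Group G] [Fintype G]

theorem indFun_mem_indSpan {P : Subgroup G → Prop} {E : Subgroup G} (hE : P E) {φ : E → ℂ}
    (hφ : IsCharacter E φ) : indFun E φ ∈ indSpan P :=
  AddSubgroup.subset_closure ⟨⟨E, φ⟩, ⟨hE, hφ⟩, rfl⟩

theorem mul_mem_indSpan {P : Subgroup G → Prop} {f χ : G → ℂ} (hf : f ∈ indSpan P)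
    (hχ : IsCharacter G χ) : f * χ ∈ indSpan P := by
  induction hf using AddSubgroup.closure_induction with
  | mem x hx =>
    obtain ⟨⟨E, φ⟩, ⟨hE, hφ⟩, rfl⟩ := hx
    simp only
    rw [← indFun_mul_res E φ χ (CharBasic.IsChar.isClassFunction hχ)]
    exact indFun_mem_indSpan hE (IsChar.mul hφ (IsChar.res hχ E))
  | zero => rw [zero_mul]; exact (indSpan P).zero_mem
  | add x y _ _ hx hy => rw [add_mul]; exact (indSpan P).add_mem hx hy
  | neg x _ hx => rw [neg_mul]; exact (indSpan P).neg_mem hx

theorem indFun_mem_of_mem {P : Subgroup G → Prop} (T : Subgroup G) [Fintype T]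
    {P' : Subgroup T → Prop} (hP : ∀ E : Subgroup T, P' E → P (E.map T.subtype)) {f : T → ℂ}
    (hf : f ∈ indSpan P') : indFun T f ∈ indSpan P := by
  induction hf using AddSubgroup.closure_induction with
  | mem x hx =>
    obtain ⟨⟨E, φ⟩, ⟨hE, hφ⟩, rfl⟩ := hx
    simp only
    rw [indFun_map T E φ]
    exact indFun_mem_indSpan (hP E hE) (isCharacter_mapFun hφ)
  | zero => rw [indFun_zero]; exact (indSpan P).zero_mem
  | add x y _ _ hx hy => rw [indFun_add]; exact (indSpan P).add_mem hx hy
  | neg x _ hx => rw [indFun_neg]; exact (indSpan P).neg_mem hx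

/-- Characters that lie in the span of monomial functions from subgroups satisfying `P`. -/
def linSpan (P : Subgroup G → Prop) : AddSubgroup (G → ℂ) :=
  AddSubgroup.closure {f | ∃ t : (E : Subgroup G) × (E →* ℂˣ),
    P t.1 ∧ f = indFun t.1 (fun e => (t.2 e : ℂ))}

/-- Reduction from characters to linear characters. -/
theorem indSpan_le_linSpan {P : Subgroup G → Prop}
    (hsub : ∀ E : Subgroup G, P E → ∀ H : Subgroup E, P (H.map E.subtype))
    (hnil : ∀ E : Subgroup G, P E → Group.IsNilpotent E) :
    indSpan P ≤ linSpan P := by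
  refine (AddSubgroup.closure_le _).2 ?_
  rintro f ⟨⟨E, φ⟩, ⟨hE, hφ⟩, rfl⟩
  haveI := hnil E hE
  haveI : Fintype E := Fintype.ofFinite E
  refine CharBasic.IsChar.induction_on (p := fun φ => indFun E φ ∈ linSpan P) hφ ?_ ?_
  · rw [indFun_zero]; exact (linSpan P).zero_mem
  · intro ψ r hψ _ ih
    rw [indFun_add]
    refine (linSpan P).add_mem ?_ ih
    obtain ⟨H, l, he⟩ := isMonomial_of_nilpotent E hψ
    rw [he, indFun_map E H]
    exact AddSubgroup.subset_closure ⟨⟨H.map E.subtype,
      l.comp (H.equivMapOfInjective E.subtype E.subtype_injective).symm.toMonoidHom⟩,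
      hsub E hE H, rfl⟩

end Cfsg.Agent.CharInduce
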